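import Groth.Agent.AlgSp.K643.PushEt
import Groth.Agent.Sga4A.IntegralSection

/-!
# Pushforward of abelian sheaves along an integral morphism is exact
-/

set_option autoImplicit false
universe u

open CategoryTheory CategoryTheory.Limits AlgebraicGeometry Opposite AlgSp

set_option backward.isDefEq.respectTransparency false

namespace K643.IntPush

open K646.EtSite K643.PushEt

variable {S : Scheme.{u}} {X Y : Sp S} {f : X ⟶ Y} (hf : Representable f)

/-- Over an affine object, covers of the base change are refined by base changes of covers. -/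
theorem refines (hint : IsIntegralMor f) (E : EtOver Y) (hE : IsAffine (sch E)) (y : sch E)
    (V : EtOver X) (p : V ⟶ (EtOver.bc hf).obj E) (hp : Function.Surjective (mor p)) :
    ∃ (E' : EtOver Y) (g : E' ⟶ E) (_ : y ∈ Set.range (mor g))
      (σ : (EtOver.bc hf).obj E' ⟶ V), σ ≫ p = (EtOver.bc hf).map g := by
  let Ω : Type u := SeparableClosure ((sch E).residueField y)
  let ξ : Spec (.of Ω) ⟶ sch E := Spec.map (CommRingCat.ofHom
    (algebraMap ((sch E).residueField y) Ω)) ≫ (sch E).fromSpecResidueField y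
  have hξ : ξ default = y := by
    rw [Scheme.Hom.comp_apply]
    exact Scheme.fromSpecResidueField_apply _ _
  have h1 : IsIntegralHom (EtOver.bcπ hf E).left := isIntegralHom_bcπ hf hint E hE
  have h2 : Etale (mor p) := inferInstance
  obtain ⟨N, g, hg, l, hl, hN⟩ := @Groth.Agent.Sga4A.EtSplit.exists_etale_factor (sch E)
    (sch ((EtOver.bc hf).obj E)) (sch V)
    (EtOver.bcπ hf E).left h1 (mor p) h2 Ω _ _ ξ (fun x _ => hp x)
  obtain ⟨σ, hσ⟩ := hN (sch ((EtOver.bc hf).obj (extObj E g))) (mor ((EtOver.bc hf).map (extHom E g)))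
    (EtOver.bcπ hf (extObj E g)).left (EtOver.isPullback_bcMap_left hf (extHom E g)).w
  refine ⟨extObj E g, extHom E g, ⟨l default, ?_⟩, liftHom p ((EtOver.bc hf).map (extHom E g)) σ hσ,
    liftHom_comp _ _ _ _⟩
  exact (congrArg (fun t : Spec (.of Ω) ⟶ sch E => t default) hl).trans hξ

theorem epi_map (hint : IsIntegralMor f) {F G : AbEt X} (φ : F ⟶ G) [Epi φ] :
    Epi ((pushEt hf AddCommGrpCat.{u + 1}).map φ) := by
  rw [epi_iff]
  intro E₀ s₀ y₀
  -- shrink to an affine object
  obtain ⟨E, h, -, hE, y, hy⟩ := exists_affine E₀ ⊤ ((etTop Y).top_mem _) y₀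
  let s : G.obj.obj (op ((EtOver.bc hf).obj E)) := G.obj.map ((EtOver.bc hf).map h).op s₀
  have : IsAffine (sch E) := hE
  have h1 : IsIntegralHom (EtOver.bcπ hf E).left := isIntegralHom_bcπ hf hint E hE
  have h2 : IsAffine (sch ((EtOver.bc hf).obj E)) := isAffine_of_isAffineHom (EtOver.bcπ hf E).left
  obtain ⟨V, p, ⟨-, hp⟩, t, ht⟩ := exists_affine_lift φ ((EtOver.bc hf).obj E) s
  obtain ⟨E', g, ⟨z, hz⟩, σ, hσ⟩ := refines hf hint E hE y V p hp
  refine ⟨E', g ≫ h, ⟨z, ?_⟩, F.obj.map σ.op t, ?_⟩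
  · change (mor g ≫ mor h) z = y₀
    rw [Scheme.Hom.comp_apply, hz, hy]
  · have h1 : φ.hom.app _ (F.obj.map σ.op t) = G.obj.map σ.op (φ.hom.app _ t) :=
      ConcreteCategory.congr_hom (φ.hom.naturality σ.op) t
    refine h1.trans ?_
    rw [ht]
    change G.obj.map σ.op (G.obj.map p.op (G.obj.map ((EtOver.bc hf).map h).op s₀)) =
      G.obj.map ((EtOver.bc hf).map (g ≫ h)).op s₀
    rw [← ConcreteCategory.comp_apply, ← ConcreteCategory.comp_apply, ← G.obj.map_comp,
      ← G.obj.map_comp, ← op_comp, ← op_comp, hσ, ← Functor.map_comp]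

theorem preservesFiniteColimits_push (hint : IsIntegralMor f) :
    PreservesFiniteColimits (pushEt hf AddCommGrpCat.{u + 1}) :=
  preservesFiniteColimits_of_epi hf (fun φ _ => epi_map hf hint φ)

theorem isZero_Rpush (hint : IsIntegralMor f) (p : ℕ) (hp : 0 < p) (F : AbEt X) :
    IsZero ((RpushEt hf p).obj F) := by
  obtain ⟨n, rfl⟩ : ∃ n, p = n + 1 := ⟨p - 1, by omega⟩
  have := preservesFiniteColimits_push hf hint
  exact Groth.Agent.Etbase.PushExact.isZero_rightDerived_of_exact _ F n

end K643.IntPush
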