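import Groth.Agent.AlgSp.K643.PushH
import Groth.Agent.AlgSp.K643.IntPush

/-!
# Affine and integral morphisms: `R^q f_* = 0` and `H^n(X, F) = H^n(Y, f_* F)`
-/

set_option autoImplicit false
universe u

open CategoryTheory CategoryTheory.Limits AlgebraicGeometry Opposite AlgSp
open CategoryTheory.Abelian (Ext)

set_option backward.isDefEq.respectTransparency false

namespace K643.PushAff

open K643.Site K643.CechX K643.Pull K643.PushConst K643.ObjCoh K643.PushH

attribute [local instance 3000] hasSheafify_et wEqualsLocallyBijective_et hasSheafCompose_et hasExt_et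
attribute [local instance] isRightAdjoint_push preservesFiniteLimits_pull
  preservesFiniteColimits_pull additive_pull

variable {S : Scheme.{u}} {X Y : Sp S} {f : X ⟶ Y} (hf : Representable f)

/-- affine objects of the small etale site -/
def AffB (X : Sp S) : EtOver X → Prop := fun U => IsAffine (sch U)

theorem locB_affine (haff : IsAffineMor f) : LocB hf (AffB X) := by
  intro E y
  obtain ⟨E', g, -, hE, hy⟩ := K646.EtSite.exists_affine E ⊤ ((etTop Y).top_mem _) y
  exact ⟨E', g, hy, PushEt.isAffine_bcObj hf haff E' hE⟩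

theorem isZero_Rpush_affine (haff : IsAffineMor f) (F : AbEt X) (hF : Acyc (AffB X) F) (q : ℕ)
    (hq : 0 < q) : IsZero ((RpushEt hf q).obj F) :=
  isZero_Rpush (locB_affine hf haff) F hF q hq

theorem nonempty_H_equiv_affine (hY : IsAlgSpace Y) (haff : IsAffineMor f) (F : AbEt X)
    (hF : Acyc (AffB X) F) (n : ℕ) :
    Nonempty (HEt X F n ≃+ HEt Y ((pushEt hf AddCommGrpCat.{u + 1}).obj F) n) :=
  nonempty_H_equiv (locB_affine hf haff) (exists_surj hY) F hF n

/-- for `f` integral the comparison map is bijective for all abelian sheaves -/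
theorem bijective_cmp_integral (hY : IsAlgSpace Y) (hint : IsIntegralMor f) (F : AbEt X) (n : ℕ) :
    Function.Bijective (cmp hf (exists_surj hY) F n) := by
  have h1 := isIso_alpha hf (exists_surj hY)
  have h2 := IntPush.preservesFiniteColimits_push hf hint
  refine Groth.Agent.Etbase.AdjCmp530.bijective_of_class (pullPushAdjEt hf AddCommGrpCat.{u + 1})
    (alpha hf (exists_surj hY)) (fun _ => True) (fun F _ => ?_) n F trivial
  obtain ⟨I, G, a, b, w, hS, hI⟩ := exists_embedding F
  exact ⟨I, G, a, b, w, hS, hI, trivial, hS.map_of_exact _⟩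

theorem nonempty_H_equiv_integral (hY : IsAlgSpace Y) (hint : IsIntegralMor f) (F : AbEt X) (n : ℕ) :
    Nonempty (HEt X F n ≃+ HEt Y ((pushEt hf AddCommGrpCat.{u + 1}).obj F) n) :=
  ⟨(AddEquiv.ofBijective _ (bijective_cmp_integral hf hY hint F n)).symm⟩

end K643.PushAff
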