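import Mathlib.Algebra.Category.ModuleCat.Sheaf.Quasicoherent
import Mathlib.CategoryTheory.Sites.SheafHom

/-!
# Local homomorphisms of sheaves of modules on a site, gluing

* `secTop`: sections of `M.over E` are elements of `M(E)`.
* `toPH`, `ofPH`: maps `G.over E ⟶ M.over E` are the linear sections of `presheafHom` over `E`.
* `glue`: morphisms of sheaves of modules glue along a family covering the top.
-/

set_option autoImplicit false
universe w v u

open CategoryTheory CategoryTheory.Limits Opposite

set_option backward.isDefEq.respectTransparency false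

namespace K643.ModHom

variable {C : Type u} [Category.{v} C] {J : GrothendieckTopology C} {R : Sheaf J RingCat.{w}}

section Sections

/-- sections of `M.over E` are elements of `M(E)` -/
noncomputable def secTop (M : SheafOfModules.{w} R) (E : C) : (M.over E).sections ≃ M.val.presheaf.obj (op E) where
  toFun s := s.1 (op (Over.mk (𝟙 E)))
  invFun m := PresheafOfModules.sectionsMk (fun Y => M.val.presheaf.map Y.unop.hom.op m) (by
    intro Y Z f
    change M.val.presheaf.map f.unop.left.op (M.val.presheaf.map Y.unop.hom.op m) =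
      M.val.presheaf.map Z.unop.hom.op m
    rw [← ConcreteCategory.comp_apply, ← M.val.presheaf.map_comp, ← op_comp, Over.w])
  left_inv s := by
    apply PresheafOfModules.sections_ext
    intro Y
    have h := PresheafOfModules.sections_property s
      (Over.homMk Y.unop.hom : Y.unop ⟶ Over.mk (𝟙 E)).op
    exact h
  right_inv m := by
    change M.val.presheaf.map (𝟙 E).op m = m
    simp

variable {G M N : SheafOfModules.{w} R} {E : C}

/-- value of a local homomorphism on an element over `E` -/
noncomputable def appTop (a : G.over E ⟶ M.over E) (m : G.val.presheaf.obj (op E)) : M.val.presheaf.obj (op E) :=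
  a.val.app (op (Over.mk (𝟙 E))) m

lemma secTop_map (a : G.over E ⟶ M.over E) (s : (G.over E).sections) :
    secTop M E (SheafOfModules.sectionsMap a s) = appTop a (secTop G E s) := rfl

lemma appTop_comp (a : G.over E ⟶ M.over E) (b : M.over E ⟶ N.over E) (m : G.val.presheaf.obj (op E)) :
    appTop (a ≫ b) m = appTop b (appTop a m) := rfl

lemma appTop_over (φ : M ⟶ N) (m : M.val.presheaf.obj (op E)) :
    appTop (φ.over E) m = φ.val.app (op E) m := rfl

end Sections

section PH

variable (G M : SheafOfModules.{w} R)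

/-- the sheaf hom presheaf -/
noncomputable abbrev PH : Cᵒᵖ ⥤ Type _ := presheafHom G.val.presheaf M.val.presheaf

variable {G M} {E : C}

/-- the section of `presheafHom` attached to a local homomorphism -/
noncomputable def toPH (a : G.over E ⟶ M.over E) : (PH G M).obj (op E) :=
  (PresheafOfModules.toPresheaf _).map a.val

lemma toPH_app (a : G.over E ⟶ M.over E) {Z : C} (f : Z ⟶ E) (x : G.val.presheaf.obj (op Z)) :
    (toPH a).app (op (Over.mk f)) x = a.val.app (op (Over.mk f)) x := rfl

/-- linearity of a section of `presheafHom` -/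
def IsLin (α : (PH G M).obj (op E)) : Prop :=
  ∀ (Z : C) (f : Z ⟶ E) (r : R.obj.obj (op Z)) (x : G.val.obj (op Z)),
    (α.app (op (Over.mk f)) (show G.val.presheaf.obj (op Z) from (r • x : G.val.obj (op Z))) :
      M.val.presheaf.obj (op Z)) =
      (r • (show M.val.obj (op Z) from α.app (op (Over.mk f)) x) : M.val.obj (op Z))

lemma isLin_toPH (a : G.over E ⟶ M.over E) : IsLin (toPH a) := fun _ f r x =>
  (a.val.app (op (Over.mk f))).hom.map_smul r x

/-- the local homomorphism attached to a linear section of `presheafHom` -/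
noncomputable def ofPH (α : (PH G M).obj (op E)) (h : IsLin α) : G.over E ⟶ M.over E :=
  ⟨PresheafOfModules.homMk (M₁ := (G.over E).val) (M₂ := (M.over E).val) α (fun Y r m =>
    h _ Y.unop.hom r m)⟩

lemma ofPH_app (α : (PH G M).obj (op E)) (h : IsLin α) {Z : C} (f : Z ⟶ E)
    (x : G.val.presheaf.obj (op Z)) : (ofPH α h).val.app (op (Over.mk f)) x = α.app (op (Over.mk f)) x := rfl

lemma isLin_map (α : (PH G M).obj (op E)) (h : IsLin α) {W : C} (g : W ⟶ E) :
    IsLin ((PH G M).map g.op α) := fun _ f r x => by
  rw [presheafHom_map_app f g (f ≫ g) rfl]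
  exact h _ (f ≫ g) r x

lemma ph_ext {α β : (PH G M).obj (op E)}
    (h : ∀ {Z : C} (f : Z ⟶ E) (x : G.val.presheaf.obj (op Z)),
      (α.app (op (Over.mk f)) x : M.val.presheaf.obj (op Z)) = β.app (op (Over.mk f)) x) : α = β := by
  refine NatTrans.ext (funext fun Y => ?_)
  exact AddCommGrpCat.hom_ext (AddMonoidHom.ext fun x => h Y.unop.hom x)

/-- restriction of a local homomorphism -/
noncomputable def restr (a : G.over E ⟶ M.over E) {W : C} (g : W ⟶ E) : G.over W ⟶ M.over W :=
  ofPH ((PH G M).map g.op (toPH a)) (isLin_map _ (isLin_toPH a) g)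

lemma restr_app (a : G.over E ⟶ M.over E) {W Z : C} (g : W ⟶ E) (f : Z ⟶ W)
    (x : G.val.presheaf.obj (op Z)) :
    (restr a g).val.app (op (Over.mk f)) x = a.val.app (op (Over.mk (f ≫ g))) x := by
  refine (ofPH_app _ _ f x).trans ?_
  rw [presheafHom_map_app f g (f ≫ g) rfl]
  rfl

lemma over_hom_ext {a b : G.over E ⟶ M.over E}
    (h : ∀ {Z : C} (f : Z ⟶ E) (x : G.val.presheaf.obj (op Z)),
      a.val.app (op (Over.mk f)) x = b.val.app (op (Over.mk f)) x) : a = b := by
  apply (SheafOfModules.forget _).map_injective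
  apply (PresheafOfModules.toPresheaf _).map_injective
  exact ph_ext (α := toPH a) (β := toPH b) h

end PH

section Glue

variable [J.HasSheafCompose (CategoryTheory.forget AddCommGrpCat.{w})]
variable {G M : SheafOfModules.{w} R} {κ : Type*} {Y : κ → C}

/-- Sections of a sheaf of modules which agree on a family covering the top are equal. -/
lemma sec_ext_coversTop (hY : J.CoversTop Y) {E : C} (s t : M.val.presheaf.obj (op E))
    (h : ∀ {Z : C} (f : Z ⟶ E) (k : κ) (_ : Z ⟶ Y k), M.val.presheaf.map f.op s = M.val.presheaf.map f.op t) :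
    s = t := by
  have hM : Presieve.IsSheaf J (M.val.presheaf ⋙ CategoryTheory.forget AddCommGrpCat.{w}) :=
    (isSheaf_iff_isSheaf_of_type _ _).1
      ((sheafCompose J (CategoryTheory.forget AddCommGrpCat.{w})).obj ⟨_, M.isSheaf⟩).property
  refine hM.isSeparated _ (hY E) |>.ext ?_
  rintro Z f ⟨k, ⟨g⟩⟩
  exact h f k g

lemma hom_ext_over (hY : J.CoversTop Y) (φ ψ : G ⟶ M)
    (h : ∀ k, φ.over (Y k) = ψ.over (Y k)) : φ = ψ := by
  apply (SheafOfModules.forget _).map_injective
  apply (PresheafOfModules.toPresheaf _).map_injective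
  refine NatTrans.ext (funext fun E => AddCommGrpCat.hom_ext (AddMonoidHom.ext fun x => ?_))
  refine sec_ext_coversTop hY _ _ (fun {Z} f k g => ?_)
  have h1 : ∀ χ : G ⟶ M, M.val.presheaf.map f.op (((PresheafOfModules.toPresheaf _).map χ.val).app E x) =
      (χ.over (Y k)).val.app (op (Over.mk g)) (G.val.presheaf.map f.op x) := by
    intro χ
    have := ((PresheafOfModules.toPresheaf _).map χ.val).naturality f.op
    exact (congrArg (fun a => a.hom x) this).symm
  exact (h1 φ).trans ((congrArg (fun a : G.over (Y k) ⟶ M.over (Y k) =>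
    a.val.app (op (Over.mk g)) (G.val.presheaf.map f.op x)) (h k)).trans (h1 ψ).symm)

/-- Homomorphisms glue along a family covering the top. -/
theorem glue (hY : J.CoversTop Y) (a : ∀ k, G.over (Y k) ⟶ M.over (Y k))
    (hc : ∀ (Z : C) (k l : κ) (f : Z ⟶ Y k) (g : Z ⟶ Y l) (x : G.val.presheaf.obj (op Z)),
      (a k).val.app (op (Over.mk f)) x = (a l).val.app (op (Over.mk g)) x) :
    ∃ φ : G ⟶ M, ∀ k, φ.over (Y k) = a k := by
  let x : Presheaf.FamilyOfElementsOnObjects (PH G M) Y := fun k => toPH (a k)
  have hx : x.IsCompatible := by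
    intro Z k l f g
    refine ph_ext (fun {W} h y => ?_)
    rw [presheafHom_map_app h f (h ≫ f) rfl, presheafHom_map_app h g (h ≫ g) rfl]
    exact hc W k l (h ≫ f) (h ≫ g) y
  have hF : Presheaf.IsSheaf J (PH G M) := Presheaf.IsSheaf.hom _ _ M.isSheaf
  let s := hx.section_ hY hF
  let φ₀ : G.val.presheaf ⟶ M.val.presheaf := presheafHomSectionsEquiv _ _ s
  have h1 : ∀ {Z : C} (k : κ) (g : Z ⟶ Y k) (y : G.val.presheaf.obj (op Z)),
      φ₀.app (op Z) y = (a k).val.app (op (Over.mk g)) y := by
    intro Z k g y
    have h2 : s.1 (op Z) = (PH G M).map g.op (x k) := by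
      rw [← hx.section_apply hY hF k]
      exact (s.2 g.op).symm
    have h3 : φ₀.app (op Z) y = (s.1 (op Z)).app (op (Over.mk (𝟙 Z))) y := rfl
    rw [h3, h2, presheafHom_map_app (𝟙 Z) g g (Category.id_comp g)]
    rfl
  have hnat : ∀ {E Z : C} (f : Z ⟶ E) (y : G.val.presheaf.obj (op E)),
      M.val.presheaf.map f.op (φ₀.app (op E) y) = φ₀.app (op Z) (G.val.presheaf.map f.op y) :=
    fun {E Z} f y => (congrArg (fun a => a.hom y) (φ₀.naturality f.op)).symm
  have hlin : ∀ (E : Cᵒᵖ) (r : R.obj.obj E) (m : G.val.obj E),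
      φ₀.app E (show G.val.presheaf.obj E from r • m) =
        (r • (show M.val.obj E from φ₀.app E m) : M.val.obj E) := by
    rintro ⟨E⟩ r m
    refine sec_ext_coversTop hY _ _ (fun {Z} f k g => ?_)
    refine (hnat f _).trans ?_
    have e1 : G.val.presheaf.map f.op (show G.val.presheaf.obj (op E) from r • m) =
        (show G.val.presheaf.obj (op Z) from
          ((R.obj.map f.op r • (G.val.presheaf.map f.op m : G.val.obj (op Z))) : G.val.obj (op Z))) :=
      PresheafOfModules.map_smul G.val f.op r m
    have e2 : M.val.presheaf.map f.op (show M.val.presheaf.obj (op E) from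
        (r • (show M.val.obj (op E) from φ₀.app (op E) m) : M.val.obj (op E))) =
        (show M.val.presheaf.obj (op Z) from
          ((R.obj.map f.op r • (M.val.presheaf.map f.op (φ₀.app (op E) m) : M.val.obj (op Z))) :
            M.val.obj (op Z))) :=
      PresheafOfModules.map_smul M.val f.op r _
    rw [e1, e2, hnat f, h1 k g, h1 k g]
    exact isLin_toPH (a k) _ g _ _
  refine ⟨⟨PresheafOfModules.homMk φ₀ hlin⟩, fun k => ?_⟩
  exact over_hom_ext (fun {Z} f y => h1 k f y)

end Glue

end K643.ModHom
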