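import Groth.Agent.AlgSp.K643.Site
import Mathlib.AlgebraicGeometry.Morphisms.QuasiSeparated
import Mathlib.AlgebraicGeometry.Morphisms.UniversallyOpen
import Mathlib.CategoryTheory.ObjectProperty.FiniteProducts

/-!
# The qcqs objects of the small etale site of an algebraic space form a coherent basis
-/

set_option autoImplicit false
universe u

open CategoryTheory CategoryTheory.Limits AlgebraicGeometry Opposite AlgSp
open Groth.Agent.Etbase.SiteColim Groth.Agent.Etbase.CechFamily

set_option backward.isDefEq.respectTransparency false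

namespace K643.Qcqs

open K643.Site

variable {S : Scheme.{u}} {X : Sp S}

variable (X) in
/-- the quasi-compact quasi-separated objects of the small étale site -/
def QCQS : Set (EtOver X) := {E | CompactSpace ↥(sch E) ∧ QuasiSeparatedSpace ↥(sch E)}

lemma qcqs_of_isAffine {E : EtOver X} (h : IsAffine (sch E)) : E ∈ QCQS X :=
  ⟨inferInstance, inferInstance⟩

lemma qcqs_of_schIso {E E' : EtOver X} (e : sch E ≅ sch E') (h : E ∈ QCQS X) : E' ∈ QCQS X := by
  have := h.1
  have := h.2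
  exact ⟨QuasiCompact.compactSpace_of_compactSpace e.inv,
    quasiSeparatedSpace_of_quasiSeparated e.inv⟩

lemma qcqs_of_iso {E E' : EtOver X} (e : E ≅ E') (h : E ∈ QCQS X) : E' ∈ QCQS X :=
  qcqs_of_schIso ((EtOver.toScheme X).mapIso e) h

lemma isPullback_sch {U V W P : EtOver X} {a : P ⟶ V} {b : P ⟶ W} {f : V ⟶ U} {g : W ⟶ U}
    (h : IsPullback a b f g) : IsPullback (schMap a) (schMap b) (schMap f) (schMap g) :=
  h.map (EtOver.toScheme X)

lemma qcqs_of_isPullback {U V W P : EtOver X} {a : P ⟶ V} {b : P ⟶ W} {f : V ⟶ U} {g : W ⟶ U}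
    (h : IsPullback a b f g) (hU : U ∈ QCQS X) (hV : V ∈ QCQS X) (hW : W ∈ QCQS X) :
    P ∈ QCQS X := by
  have := hU.1
  have := hU.2
  have := hV.1
  have := hV.2
  have := hW.1
  have := hW.2
  have hp := isPullback_sch h
  have : QuasiCompact (schMap g) := inferInstance
  have : QuasiSeparated (schMap g) := inferInstance
  have h1 : QuasiCompact (schMap a) := MorphismProperty.of_isPullback hp.flip inferInstance
  have h2 : QuasiSeparated (schMap a) := MorphismProperty.of_isPullback hp.flip inferInstance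
  exact ⟨QuasiCompact.compactSpace_of_compactSpace (schMap a),
    quasiSeparatedSpace_of_quasiSeparated (schMap a)⟩

/-- objects over `U` which are qcqs -/
def Q (U : EtOver X) : ObjectProperty (Over U) := fun A => A.left ∈ QCQS X

lemma closed (U : EtOver X) (hU : U ∈ QCQS X) : (Q U).IsClosedUnderFiniteProducts := by
  have h0 : (Q U).IsClosedUnderLimitsOfShape (Discrete.{0} PEmpty) := by
    refine ⟨?_⟩
    rintro A ⟨p⟩
    have hA : IsTerminal A :=
      (IsLimit.equivOfNatIsoOfIso p.diag.uniqueFromEmpty _ _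
        (by exact Cone.ext (Iso.refl _) (by rintro ⟨⟨⟩⟩))).1 p.isLimit
    let e : Over.mk (𝟙 U) ≅ A := Over.mkIdTerminal.uniqueUpToIso hA
    exact qcqs_of_iso ((Over.forget U).mapIso e) hU
  have h2 : (Q U).IsClosedUnderLimitsOfShape (Discrete WalkingPair) := by
    refine ⟨?_⟩
    rintro A ⟨p⟩
    let c : BinaryFan (p.diag.obj ⟨WalkingPair.left⟩) (p.diag.obj ⟨WalkingPair.right⟩) :=
      (Cone.postcompose (diagramIsoPair p.diag).hom).obj (Cone.mk _ p.π)
    have hc : IsLimit c :=
      (IsLimit.postcomposeHomEquiv (diagramIsoPair p.diag) (Cone.mk _ p.π)).symm p.isLimit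
    have := Over.isPullback_of_binaryFan_isLimit c hc
    exact qcqs_of_isPullback this hU (p.prop_diag_obj ⟨WalkingPair.left⟩)
      (p.prop_diag_obj ⟨WalkingPair.right⟩)
  exact ObjectProperty.IsClosedUnderFiniteProducts.mk'

theorem prod_mem {U : EtOver X} (hU : U ∈ QCQS X) {n : ℕ} (Z : Fin n → Over U)
    (hZ : ∀ k, (Z k).left ∈ QCQS X) : (∏ᶜ Z).left ∈ QCQS X := by
  have := closed U hU
  exact (Q U).prop_product (f := Z) hZ

/-- affine neighbourhoods inside an object of the site: every point of `U` is in the image of an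
affine open of any `V → U` hitting it -/
lemma exists_affine {V : EtOver X} (v : ↥(sch V)) :
    ∃ (W : EtOver X) (k : W ⟶ V) (w : ↥(sch W)), IsAffine (sch W) ∧ IsOpenImmersion (schMap k) ∧
      schMap k w = v := by
  obtain ⟨R, j, hj, hvj, -⟩ := Scheme.exists_affine_mem_range_and_range_subset
    (x := v) (U := (⊤ : (sch V).Opens)) (by simp)
  let T : Over S := Over.mk (j ≫ V.obj.left.hom)
  let jj : T ⟶ V.obj.left := Over.homMk j rfl
  have he : RepWith @Etale ((yon S).map jj ≫ V.obj.hom) :=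
    (repWith_isMultiplicative (S := S) @Etale).comp_mem _ _
      ((repWith_yon_map_iff _ _).2 (by
        change Etale j
        infer_instance)) V.property
  obtain ⟨w, hw⟩ := hvj
  exact ⟨EtOver.mk ((yon S).map jj ≫ V.obj.hom) he, EtOver.homMk jj rfl, w,
    inferInstanceAs (IsAffine (Spec R)), hj, hw⟩

theorem cohBasis : CohBasis (etTop X) (QCQS X) := by
  intro U hU S hS
  have := hU.1
  rw [mem_iff] at hS
  have key : ∀ x : ↥(sch U), ∃ (W : EtOver X) (h : W ⟶ U), S h ∧ IsAffine (sch W) ∧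
      x ∈ Set.range (schMap h) := by
    intro x
    obtain ⟨V, g, v, hg, hv⟩ := hS x
    obtain ⟨W, k, w, hW, -, hw⟩ := exists_affine v
    refine ⟨W, k ≫ g, S.downward_closed hg k, hW, w, ?_⟩
    rw [schMap_comp, Scheme.Hom.comp_apply, hw, hv]
  choose W h hS' hW hx using key
  have hopen : ∀ x, IsOpen (Set.range (schMap (h x))) := fun x =>
    (Scheme.Hom.isOpenMap (schMap (h x))).isOpen_range
  obtain ⟨t, ht⟩ := isCompact_univ.elim_finite_subcover (fun x => Set.range (schMap (h x))) hopen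
    (fun x _ => Set.mem_iUnion.2 ⟨x, hx x⟩)
  let e := (t.equivFin).symm
  let Y : Fin t.card → Over U := fun a => Over.mk (h (e a).1)
  refine ⟨t.card, Y, fun a => hS' _, ?_, ?_⟩
  · rw [mem_iff]
    intro x
    have := ht (Set.mem_univ x)
    simp only [Set.mem_iUnion] at this
    obtain ⟨y, hy, v, hv⟩ := this
    obtain ⟨a, ha⟩ := e.surjective ⟨y, hy⟩
    have hay : (e a).1 = y := congrArg Subtype.val ha
    subst hay
    exact ⟨_, h (e a).1, v, Sieve.ofArrows_mk _ (fun a => (Y a).hom) a, hv⟩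
  · intro n a
    refine prod_mem hU _ (fun k => ?_)
    exact qcqs_of_isAffine (hW _)

section Products

/-- `h_W ⟶ h_{U₁ × U₂}` is a base change of the diagonal of `X`, for `W = U₁ ×_X U₂`. -/
theorem isPullback_diag {U₁ U₂ W : Over S} {a₁ : (yon S).obj U₁ ⟶ X} {a₂ : (yon S).obj U₂ ⟶ X}
    {p₁ : W ⟶ U₁} {p₂ : W ⟶ U₂}
    (h : IsPullback ((yon S).map p₁) ((yon S).map p₂) a₁ a₂) :
    IsPullback ((yon S).map p₁ ≫ a₁) ((yon S).map (prod.lift p₁ p₂)) (Limits.diag X)
      (prod.lift ((yon S).map prod.fst ≫ a₁) ((yon S).map prod.snd ≫ a₂)) := by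
  have hl : IsLimit (BinaryFan.mk ((yon S).map (prod.fst : U₁ ⨯ U₂ ⟶ U₁))
      ((yon S).map (prod.snd : U₁ ⨯ U₂ ⟶ U₂))) := isLimitOfHasBinaryProductOfPreservesLimit (yon S) U₁ U₂
  have q₁ : (yon S).map (prod.lift p₁ p₂) ≫ (yon S).map (prod.fst : U₁ ⨯ U₂ ⟶ U₁) = (yon S).map p₁ := by
    rw [← Functor.map_comp, Limits.prod.lift_fst]
  have q₂ : (yon S).map (prod.lift p₁ p₂) ≫ (yon S).map (prod.snd : U₁ ⨯ U₂ ⟶ U₂) = (yon S).map p₂ := by
    rw [← Functor.map_comp, Limits.prod.lift_snd]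
  have hw : ((yon S).map p₁ ≫ a₁) ≫ Limits.diag X = (yon S).map (prod.lift p₁ p₂) ≫
      (prod.lift ((yon S).map prod.fst ≫ a₁) ((yon S).map prod.snd ≫ a₂)) := by
    apply Limits.prod.hom_ext
    · simp only [Category.assoc, Limits.prod.lift_fst, Category.comp_id]
      rw [← Category.assoc, q₁]
    · simp only [Category.assoc, Limits.prod.lift_snd, Category.comp_id]
      rw [← Category.assoc, q₂, h.w]
  have c₁ : ∀ s : PullbackCone (Limits.diag X)
      (prod.lift ((yon S).map (prod.fst : U₁ ⨯ U₂ ⟶ U₁) ≫ a₁) ((yon S).map prod.snd ≫ a₂)),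
      s.fst = s.snd ≫ (yon S).map prod.fst ≫ a₁ := by
    intro s
    have e := congrArg (fun k => k ≫ prod.fst) s.condition
    simp only [Category.assoc, Limits.prod.lift_fst, Category.comp_id] at e
    exact e
  have c₂ : ∀ s : PullbackCone (Limits.diag X)
      (prod.lift ((yon S).map (prod.fst : U₁ ⨯ U₂ ⟶ U₁) ≫ a₁) ((yon S).map prod.snd ≫ a₂)),
      s.fst = s.snd ≫ (yon S).map prod.snd ≫ a₂ := by
    intro s
    have e := congrArg (fun k => k ≫ prod.snd) s.condition
    simp only [Category.assoc, Limits.prod.lift_snd, Category.comp_id] at e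
    exact e
  have c₃ : ∀ s : PullbackCone (Limits.diag X)
      (prod.lift ((yon S).map (prod.fst : U₁ ⨯ U₂ ⟶ U₁) ≫ a₁) ((yon S).map prod.snd ≫ a₂)),
      (s.snd ≫ (yon S).map prod.fst) ≫ a₁ = (s.snd ≫ (yon S).map prod.snd) ≫ a₂ := by
    intro s
    rw [Category.assoc, Category.assoc, ← c₁ s, ← c₂ s]
  refine ⟨⟨hw⟩, ⟨PullbackCone.IsLimit.mk _ (fun s => h.lift (s.snd ≫ (yon S).map prod.fst)
    (s.snd ≫ (yon S).map prod.snd) (c₃ s)) (fun s => ?_) (fun s => ?_) (fun s m h₁ h₂ => ?_)⟩⟩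
  · exact (Category.assoc _ _ _).symm.trans ((congrArg (fun k => k ≫ a₁) (h.lift_fst _ _ (c₃ s))).trans
      ((Category.assoc _ _ _).trans (c₁ s).symm))
  · apply BinaryFan.IsLimit.hom_ext hl
    · exact (Category.assoc _ _ _).trans ((congrArg (fun k => h.lift _ _ (c₃ s) ≫ k) q₁).trans
        (h.lift_fst _ _ (c₃ s)))
    · exact (Category.assoc _ _ _).trans ((congrArg (fun k => h.lift _ _ (c₃ s) ≫ k) q₂).trans
        (h.lift_snd _ _ (c₃ s)))
  · apply h.hom_ext
    · exact (congrArg (fun k => m ≫ k) q₁.symm).trans ((Category.assoc _ _ _).symm.trans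
        ((congrArg (fun k => k ≫ (yon S).map prod.fst) h₂).trans (h.lift_fst _ _ (c₃ s)).symm))
    · exact (congrArg (fun k => m ≫ k) q₂.symm).trans ((Category.assoc _ _ _).symm.trans
        ((congrArg (fun k => k ≫ (yon S).map prod.snd) h₂).trans (h.lift_snd _ _ (c₃ s)).symm))

/-- The defining square of the product of two objects of the small etale site. -/
theorem isPullback_prodObj (E₁ E₂ : EtOver X) :
    IsPullback ((yon S).map (EtOver.prodFst E₁ E₂).hom.left)
      ((yon S).map (EtOver.prodSnd E₁ E₂).hom.left) E₁.obj.hom E₂.obj.hom := by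
  have h := (E₂.property.1.isPullback E₁.obj.hom).flip
  have e : (yon S).map (EtOver.prodSnd E₁ E₂).hom.left = E₂.property.1.fst E₁.obj.hom := by
    change (yon S).map (E₂.property.1.fst' E₁.obj.hom) = _
    rw [Functor.relativelyRepresentable.map_fst']
  rw [e]
  exact h

/-- Products over `X` of qcqs objects are qcqs when `X` is quasi-separated and `S` is
quasi-separated. -/
theorem prod_qcqs [QuasiSeparatedSpace ↥S] (hqs : IsQuasiSeparatedSp X) {E₁ E₂ : EtOver X}
    (h₁ : E₁ ∈ QCQS X) (h₂ : E₂ ∈ QCQS X) : EtOver.prodObj E₁ E₂ ∈ QCQS X := by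
  have := h₁.1
  have := h₁.2
  have := h₂.1
  have := h₂.2
  let U₁ := E₁.obj.left
  let U₂ := E₂.obj.left
  let W := (EtOver.prodObj E₁ E₂).obj.left
  let p₁ : W ⟶ U₁ := (EtOver.prodFst E₁ E₂).hom.left
  let p₂ : W ⟶ U₂ := (EtOver.prodSnd E₁ E₂).hom.left
  have hp := isPullback_diag (isPullback_prodObj E₁ E₂)
  have hqc : QuasiCompact (prod.lift p₁ p₂).left := hqs.2 _ _ _ hp
  -- `U₁ × U₂` is qcqs
  have h3 : IsPullback (prod.fst : U₁ ⨯ U₂ ⟶ U₁).left (prod.snd : U₁ ⨯ U₂ ⟶ U₂).left U₁.hom U₂.hom := by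
    refine IsPullback.of_iso_pullback ⟨?_⟩ (Over.prodLeftIsoPullback U₁ U₂)
      (Over.prodLeftIsoPullback_hom_fst U₁ U₂) (Over.prodLeftIsoPullback_hom_snd U₁ U₂)
    rw [Over.w, Over.w]
  have hq2 : QuasiCompact U₂.hom := inferInstance
  have hs2 : QuasiSeparated U₂.hom := inferInstance
  have hq1 : QuasiCompact (prod.fst : U₁ ⨯ U₂ ⟶ U₁).left := MorphismProperty.of_isPullback h3.flip hq2
  have hs1 : QuasiSeparated (prod.fst : U₁ ⨯ U₂ ⟶ U₁).left := MorphismProperty.of_isPullback h3.flip hs2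
  have c1 : CompactSpace (U₁ ⨯ U₂).left := QuasiCompact.compactSpace_of_compactSpace (prod.fst : U₁ ⨯ U₂ ⟶ U₁).left
  have c2 : QuasiSeparatedSpace (U₁ ⨯ U₂).left := quasiSeparatedSpace_of_quasiSeparated (prod.fst : U₁ ⨯ U₂ ⟶ U₁).left
  have hm : Mono (prod.lift p₁ p₂).left := by
    have h4 : Mono ((yon S).map (prod.lift p₁ p₂)) :=
      MorphismProperty.of_isPullback (P := MorphismProperty.monomorphisms (Sp S)) hp
        (MorphismProperty.monomorphisms.infer_property (Limits.diag X))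
    have h5 : Mono (prod.lift p₁ p₂) := (yon S).mono_of_mono_map h4
    exact Over.mono_left_of_mono _
  exact ⟨QuasiCompact.compactSpace_of_compactSpace (prod.lift p₁ p₂).left,
    quasiSeparatedSpace_of_quasiSeparated (prod.lift p₁ p₂).left⟩

end Products

end K643.Qcqs
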