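import Groth.Prelude.Def_AlgSpOX2
import Groth.Agent.AlgSp.K646.EtSite

/-!
# Pushforward of abelian sheaves along a representable morphism: basics

* `liftHom`: morphisms in the small etale site from factorisations of the morphisms of schemes.
* `epi_iff`: epimorphisms of abelian sheaves are locally surjective (pointwise form).
* `prop_bcπ_of_affine`, `isIntegralHom_bcπ`, `isFinite_bcπ`, `isAffine_bcObj`: the base change of an
  affine object along an integral/finite/affine morphism.
-/

set_option autoImplicit false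
universe u

open CategoryTheory CategoryTheory.Limits AlgebraicGeometry Opposite AlgSp

set_option backward.isDefEq.respectTransparency false

namespace K643.PushEt

open K646.EtSite

variable {S : Scheme.{u}}

section Lift

variable {X : Sp S}

/-- Morphism to `V` over `E` from a morphism of schemes. -/
noncomputable def liftHom {E E' V : EtOver X} (p : V ⟶ E) (g : E' ⟶ E) (l : sch E' ⟶ sch V)
    (h : l ≫ mor p = mor g) : E' ⟶ V :=
  have h1 : l ≫ V.obj.left.hom = E'.obj.left.hom := by
    have e1 : mor p ≫ E.obj.left.hom = V.obj.left.hom := Over.w p.hom.left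
    have e2 : mor g ≫ E.obj.left.hom = E'.obj.left.hom := Over.w g.hom.left
    rw [← e1, ← e2, ← Category.assoc, h]
  EtOver.homMk (Over.homMk l h1) (by
    have h2 : (Over.homMk l h1 : E'.obj.left ⟶ V.obj.left) ≫ p.hom.left = g.hom.left :=
      Over.OverMorphism.ext h
    rw [← EtOver.w p, ← EtOver.w g, ← Category.assoc, ← Functor.map_comp, h2])

theorem mor_liftHom {E E' V : EtOver X} (p : V ⟶ E) (g : E' ⟶ E) (l : sch E' ⟶ sch V)
    (h : l ≫ mor p = mor g) : mor (liftHom p g l h) = l := rfl

theorem liftHom_comp {E E' V : EtOver X} (p : V ⟶ E) (g : E' ⟶ E) (l : sch E' ⟶ sch V)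
    (h : l ≫ mor p = mor g) : liftHom p g l h ≫ p = g := mor_ext h

theorem epi_iff {F G : AbEt X} (φ : F ⟶ G) :
    Epi φ ↔ ∀ (U : EtOver X) (s : G.obj.obj (op U)) (x : sch U), ∃ (W : EtOver X) (g : W ⟶ U)
      (_ : x ∈ Set.range (mor g)) (t : F.obj.obj (op W)), φ.hom.app (op W) t = G.obj.map g.op s := by
  rw [← Sheaf.isLocallySurjective_iff_epi']
  constructor
  · intro h U s x
    have h1 := Presheaf.imageSieve_mem (etTop X) φ.hom (U := op U) s
    rw [mem_etTop_iff] at h1
    obtain ⟨V, g, ⟨t, ht⟩, hv⟩ := h1 x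
    exact ⟨V, g, hv, t, ht⟩
  · intro h
    constructor
    intro U s
    rw [mem_etTop_iff]
    intro x
    obtain ⟨V, g, hv, t, ht⟩ := h U s x
    exact ⟨V, g, ⟨t, ht⟩, hv⟩

end Lift

variable {X Y : Sp S} {f : X ⟶ Y} (hf : Representable f)

/-- A property of the base change of `f` to an object of the small etale site, from any
representing pullback square. -/
theorem prop_bcπ {P : MorphismProperty Scheme.{u}} [P.RespectsIso] (E : EtOver Y)
    (h : ∃ (W : Over S) (i : W ⟶ E.obj.left) (fst : (yon S).obj W ⟶ X),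
      IsPullback fst ((yon S).map i) f E.obj.hom ∧ P i.left) : P (EtOver.bcπ hf E).left := by
  obtain ⟨W, i, fst, hp, hi⟩ := h
  let e : (yon S).obj (hf.pullback E.obj.hom) ≅ (yon S).obj W :=
    (hf.isPullback E.obj.hom).isoIsPullback _ _ hp
  have he : e.hom ≫ (yon S).map i = (yon S).map (EtOver.bcπ hf E) :=
    IsPullback.isoIsPullback_hom_snd _ _ (hf.isPullback E.obj.hom) hp
  let e' : hf.pullback E.obj.hom ≅ W := (yon S).preimageIso e
  have he' : e'.hom ≫ i = EtOver.bcπ hf E := by
    apply (yon S).map_injective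
    rw [Functor.map_comp, Functor.preimageIso_hom, Functor.map_preimage]
    exact he
  have h2 : (EtOver.bcπ hf E).left = e'.hom.left ≫ i.left := by rw [← he', Over.comp_left]
  rw [h2]
  have : IsIso e'.hom.left := inferInstance
  exact (P.cancel_left_of_respectsIso e'.hom.left i.left).2 hi

theorem isIntegralHom_bcπ (h : IsIntegralMor f) (E : EtOver Y) (hE : IsAffine (sch E)) :
    IsIntegralHom (EtOver.bcπ hf E).left := by
  obtain ⟨W, i, fst, hp, -, hi⟩ := h hE E.obj.hom
  exact prop_bcπ hf (P := @IsIntegralHom) E ⟨W, i, fst, hp, hi⟩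

theorem isFinite_bcπ (h : IsFiniteMor f) (E : EtOver Y) (hE : IsAffine (sch E)) :
    IsFinite (EtOver.bcπ hf E).left := by
  obtain ⟨W, i, fst, hp, -, hi⟩ := h hE E.obj.hom
  exact prop_bcπ hf (P := @IsFinite) E ⟨W, i, fst, hp, hi⟩

theorem isAffine_bcObj (h : IsAffineMor f) (E : EtOver Y) (hE : IsAffine (sch E)) :
    IsAffine (sch (EtOver.bcObj hf E)) := by
  obtain ⟨W, i, fst, hp, hi⟩ := h hE E.obj.hom
  have hE' : IsAffine E.obj.left.left := hE
  have h2 : IsAffineHom (EtOver.bcπ hf E).left :=
    prop_bcπ hf (P := @IsAffineHom) E ⟨W, i, fst, hp, inferInstance⟩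
  exact isAffine_of_isAffineHom (EtOver.bcπ hf E).left

/-- `pushEt` is exact as soon as it preserves epimorphisms. -/
theorem preservesFiniteColimits_of_epi
    (h : ∀ {F G : AbEt X} (φ : F ⟶ G) [Epi φ], Epi ((pushEt hf AddCommGrpCat.{u + 1}).map φ)) :
    PreservesFiniteColimits (pushEt hf AddCommGrpCat.{u + 1}) := by
  have : PreservesFiniteLimits (pushEt hf AddCommGrpCat.{u + 1}) := inferInstance
  refine (pushEt hf AddCommGrpCat.{u + 1}).preservesFiniteColimits_iff_forall_exact_map_and_epi.2 ?_
  intro S hS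
  have h1 := (pushEt hf AddCommGrpCat.{u + 1}).preservesFiniteLimits_iff_forall_exact_map_and_mono.1
    this S hS
  have := hS.epi_g
  exact ⟨h1.1, h S.g⟩

end K643.PushEt
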