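import Groth.Agent.AlgSp.K643.PushAff
import Groth.Agent.AlgSp.K644.Chart
import Groth.Agent.Etbase.EtQC

/-!
# Quasi-coherent modules are acyclic on affine objects of the small etale site

* `AffCov`: surjective maps of affine objects;
* `cechAcyc_of_isCart`: Cech acyclicity of modules with the base change property;
* `acyc_of_cechAcyc`: Cartan's criterion for abelian sheaves on `EtOver X`;
* `acyc_of_isQuasicoherent`: `H^{n+1}(E, M) = 0` for `E` affine, `M` quasi-coherent.
-/

set_option autoImplicit false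

universe u

open CategoryTheory CategoryTheory.Limits AlgebraicGeometry Opposite Simplicial AlgSp

set_option backward.isDefEq.respectTransparency false

namespace K643.QCAcyc

open Groth.Agent.Etbase.CechCartan Groth.Agent.Etbase.FFExact Groth.Agent.Etbase.EtQC
open K646.EtSite K643.ObjCoh K643.CechX

attribute [local instance 3000] hasSheafify_et wEqualsLocallyBijective_et hasSheafCompose_et hasExt_et

variable {S : Scheme.{u}} {X : Sp S}

instance hasWidePullback' (V U : EtOver X) (f : V ⟶ U) (n : ℕ) :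
    HasWidePullback (Arrow.mk f).right (fun _ : Fin (n + 1) => (Arrow.mk f).left)
      fun _ => (Arrow.mk f).hom :=
  inferInstance

/-- Coverings of affine objects by one affine object. -/
def AffCov ⦃V U : EtOver X⦄ (f : V ⟶ U) : Prop :=
  IsAffine (sch V) ∧ IsAffine (sch U) ∧ Function.Surjective (mor f)

lemma isPullback_mor {A B C D : EtOver X} {f : A ⟶ B} {g : A ⟶ C} {h : B ⟶ D} {k : C ⟶ D}
    (sq : IsPullback f g h k) : IsPullback (mor f) (mor g) (mor h) (mor k) :=
  K643.Qcqs.isPullback_sch sq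

lemma isAffine_cechNerve {V U : EtOver X} (f : V ⟶ U) (hV : IsAffine (sch V)) (hU : IsAffine (sch U))
    (n : ℕ) : IsAffine (sch ((Arrow.mk f).cechNerve _⦋n⦌ : EtOver X)) := by
  induction n with
  | zero =>
    let e : V ⟶ (Arrow.mk f).cechNerve _⦋0⦌ := mkE f 0 f (fun _ => 𝟙 _) (by simp)
    have h1 : e ≫ pr f 0 0 = 𝟙 _ := by simp [e]
    have h2 : pr f 0 0 ≫ e = 𝟙 _ := by
      apply E_hom_ext
      intro i
      fin_cases i
      simp [e]
    let i : V ≅ (Arrow.mk f).cechNerve _⦋0⦌ := ⟨e, pr f 0 0, h1, h2⟩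
    have : IsAffine ((EtOver.toScheme X).obj V) := hV
    exact IsAffine.of_isIso ((EtOver.toScheme X).mapIso i).inv
  | succ n ih =>
    have sq := isPullback_mor (Groth.Agent.Etbase.EtCartan.isPullback_last f n)
    have : IsAffine (pullback (mor (bs f n)) (mor f)) := inferInstance
    exact IsAffine.of_isIso sq.isoPullback.hom

section linear

open scoped K644.Chart

variable {M : ModEt X} (h : K644.Chart.IsCart M)

include h in
lemma semilin {W' W T : EtOver X} (hW' : IsAffine (sch W')) (hW : IsAffine (sch W)) (g : W' ⟶ W)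
    (b : W ⟶ T) (b' : W' ⟶ T) (hb : g ≫ b = b') (a : Γ(sch T, ⊤)) (x : M.val.presheaf.obj (op W)) :
    M.val.presheaf.map g.op ((mor b).appTop a • x) = (mor b').appTop a • M.val.presheaf.map g.op x := by
  obtain ⟨h1, -⟩ := h g hW hW'
  have h2 := h1 ((mor b).appTop a) x
  refine h2.trans ?_
  congr 1
  subst hb
  change ((mor b).appTop ≫ (mor g).appTop) a = _
  rw [← Scheme.Hom.comp_appTop]
  rfl

end linear

open scoped K644.Chart in
/-- Modules with the base change property are Čech acyclic for affine étale coverings. -/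
theorem cechAcyc_of_isCart {M : ModEt X} (h : K644.Chart.IsCart M) :
    CechAcyc.{u + 1} (C := EtOver X) (fun ⦃_ _⦄ f => AffCov f) M.val.presheaf := by
  rintro V U f ⟨hV, hU, hf⟩ n x hx
  let P : (EtOver X)ᵒᵖ ⥤ AddCommGrpCat.{u + 1} := M.val.presheaf
  let E := (Arrow.mk f).cechNerve
  have hE : ∀ n, IsAffine (sch (E _⦋n⦌ : EtOver X)) := fun n => isAffine_cechNerve f hV hU n
  let modA : ∀ n, Module Γ(sch U, ⊤) (P.obj (op (E _⦋n⦌))) :=
    fun n => Module.compHom _ (mor (bs f n)).appTop.hom
  let modB : ∀ n, Module Γ(sch V, ⊤) (P.obj (op (E _⦋n + 1⦌))) :=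
    fun n => Module.compHom _ (mor (pr f (n + 1) (Fin.last (n + 1)))).appTop.hom
  let d : P.obj (op (E _⦋n⦌)) →ₗ[Γ(sch U, ⊤)] P.obj (op (E _⦋n + 1⦌)) :=
    { toFun := dC P E n
      map_add' := map_add _
      map_smul' := by
        intro a y
        rw [dC_apply, dC_apply, Finset.smul_sum]
        refine Finset.sum_congr rfl fun i _ => ?_
        rw [RingHom.id_apply, smul_comm]
        congr 1
        exact semilin h (hE _) (hE _) (E.δ i) (bs f n) (bs f (n + 1)) (δ_bs f n i) a y }
  let d' : P.obj (op (E _⦋n + 1⦌)) →ₗ[Γ(sch V, ⊤)] P.obj (op (E _⦋n + 2⦌)) :=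
    { toFun := fun y => ∑ i : Fin (n + 2), (-1 : ℤ) ^ (i : ℕ) • P.map (E.δ i.castSucc).op y
      map_add' := by
        intro y z
        simp only [map_add, smul_add, Finset.sum_add_distrib]
      map_smul' := by
        intro a y
        rw [Finset.smul_sum]
        refine Finset.sum_congr rfl fun i _ => ?_
        rw [RingHom.id_apply, smul_comm]
        congr 1
        refine semilin h (hE _) (hE _) (E.δ i.castSucc) (pr f (n + 1) (Fin.last (n + 1)))
          (pr f (n + 2) (Fin.last (n + 2))) ?_ a y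
        rw [δ_pr]
        congr 1
        exact succAbove_last' i }
  have hbc : ∀ n, IsBC (mor f).appTop.hom (P.map (E.δ (Fin.last (n + 1))).op).hom := by
    intro n
    have sq := isPullback_mor (Groth.Agent.Etbase.EtCartan.isPullback_last f n)
    have := hE n
    have hpo := isPushout_appTop_of_isPullback sq
    have comm : (mor (E.δ (Fin.last (n + 1)))).appTop.hom.comp (mor (bs f n)).appTop.hom =
        (mor (pr f (n + 1) (Fin.last (n + 1)))).appTop.hom.comp (mor f).appTop.hom := by
      have := hpo.w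
      exact congrArg (fun z => z.hom) this
    refine IsBC.of_isPushout (mor (bs f n)).appTop.hom (mor f).appTop.hom
      (mor (E.δ (Fin.last (n + 1)))).appTop.hom (mor (pr f (n + 1) (Fin.last (n + 1)))).appTop.hom
      comm ?_ _ (fun _ _ => rfl) (fun _ _ => rfl) (h (E.δ (Fin.last (n + 1))) (hE _) (hE _))
    let := (mor (bs f n)).appTop.hom.toAlgebra
    let := (mor f).appTop.hom.toAlgebra
    let := (mor (E.δ (Fin.last (n + 1)))).appTop.hom.toAlgebra
    let := (mor (pr f (n + 1) (Fin.last (n + 1)))).appTop.hom.toAlgebra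
    let := ((mor (E.δ (Fin.last (n + 1)))).appTop.hom.comp (mor (bs f n)).appTop.hom).toAlgebra
    have : IsScalarTower Γ(sch U, ⊤) Γ(sch (E _⦋n⦌ : EtOver X), ⊤)
      Γ(sch (E _⦋n + 1⦌ : EtOver X), ⊤) := IsScalarTower.of_algebraMap_eq' rfl
    have : IsScalarTower Γ(sch U, ⊤) Γ(sch V, ⊤)
      Γ(sch (E _⦋n + 1⦌ : EtOver X), ⊤) := IsScalarTower.of_algebraMap_eq' comm
    have hpo' := (CommRingCat.isPushout_iff_isPushout (R := Γ(sch U, ⊤))
      (R' := Γ(sch (E _⦋n⦌ : EtOver X), ⊤)) (S := Γ(sch V, ⊤))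
      (S' := Γ(sch (E _⦋n + 1⦌ : EtOver X), ⊤))).1 hpo
    exact hpo'.symm
  have hff : (mor f).appTop.hom.FaithfullyFlat := by
    rw [← Flat.flat_and_surjective_iff_faithfullyFlat_of_isAffine]
    exact ⟨inferInstance, ⟨hf⟩⟩
  refine IsBC.exact (mor f).appTop.hom hff d d' (P.map (E.δ (Fin.last (n + 1))).op).hom
    (P.map (E.δ (Fin.last (n + 2))).op).hom (hbc n) (hbc (n + 1)) ?_ x
    ⟨P.map (sh f n).op (P.map (E.δ (Fin.last (n + 2))).op x), ?_⟩
  · intro m
    change P.map (E.δ (Fin.last (n + 2))).op (dC P E n m) =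
      ∑ i : Fin (n + 2), (-1 : ℤ) ^ (i : ℕ) • P.map (E.δ i.castSucc).op
        (P.map (E.δ (Fin.last (n + 1))).op m)
    rw [dC_apply, map_sum]
    refine Finset.sum_congr rfl fun i _ => ?_
    rw [map_zsmul]
    congr 1
    change (P.map (E.δ i).op ≫ P.map (E.δ (Fin.last (n + 2))).op) m =
      (P.map (E.δ (Fin.last (n + 1))).op ≫ P.map (E.δ i.castSucc).op) m
    rw [← Functor.map_comp, ← Functor.map_comp, ← op_comp, ← op_comp, δ_last_comm]
  · set y := P.map (E.δ (Fin.last (n + 2))).op x with hy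
    change ∑ i : Fin (n + 2), (-1 : ℤ) ^ (i : ℕ) • P.map (E.δ i.castSucc).op
      (P.map (sh f n).op y) = y
    have h1 : ∑ j : Fin (n + 3), (-1 : ℤ) ^ (j : ℕ) • P.map (sh f (n + 1)).op
        (P.map (E.δ j.castSucc).op y) = 0 := by
      have h2 : P.map (sh f (n + 1)).op (P.map (E.δ (Fin.last (n + 3))).op (dC P E (n + 1) x)) = 0 := by
        rw [hx, map_zero, map_zero]
      rw [dC_apply, map_sum, map_sum] at h2
      rw [← h2]
      refine Finset.sum_congr rfl fun j _ => ?_
      rw [map_zsmul, map_zsmul]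
      congr 2
      rw [hy]
      change (P.map (E.δ (Fin.last (n + 2))).op ≫ P.map (E.δ j.castSucc).op) x =
        (P.map (E.δ j).op ≫ P.map (E.δ (Fin.last (n + 3))).op) x
      rw [← Functor.map_comp, ← Functor.map_comp, ← op_comp, ← op_comp, δ_last_comm]
    rw [Fin.sum_univ_succ] at h1
    have h3 : P.map (sh f (n + 1)).op (P.map (E.δ (Fin.castSucc 0)).op y) = y := by
      change (P.map (E.δ 0).op ≫ P.map (sh f (n + 1)).op) y = y
      rw [← Functor.map_comp, ← op_comp, sh_δ_zero, op_id, P.map_id]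
      rfl
    rw [h3, Fin.val_zero, pow_zero, one_smul] at h1
    rw [← sub_eq_zero, ← neg_sub, neg_eq_zero, ← h1, sub_eq_add_neg, ← Finset.sum_neg_distrib]
    congr 1
    refine Finset.sum_congr rfl fun i _ => ?_
    rw [Fin.val_succ, pow_succ]
    simp only [mul_neg, mul_one, neg_smul]
    congr 2
    change (P.map (sh f n).op ≫ P.map (E.δ i.castSucc).op) y =
      (P.map (E.δ i.succ.castSucc).op ≫ P.map (sh f (n + 1)).op) y
    rw [← Functor.map_comp, ← Functor.map_comp, ← op_comp, ← op_comp, sh_δ_succ]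

/-- Cech acyclicity on affine objects. -/
def Cech (F : AbEt X) : Prop := CechAcyc.{u + 1} (C := EtOver X) (fun ⦃_ _⦄ f => AffCov f) F.obj

/-- The dimension shifting step on the small étale site. -/
theorem cech_step {F I Q : AbEt X} (j : F ⟶ I) (q : I ⟶ Q) (wz : j ≫ q = 0)
    (hT : (ShortComplex.mk j q wz).ShortExact) [Injective I] (hF : Cech F) :
    (∀ U : EtOver X, IsAffine (sch U) → Function.Surjective (q.hom.app (op U))) ∧ Cech Q := by
  have hepi : Epi q := hT.epi_g
  refine cartan_step.{u + 1, u, u + 1} (fun U : EtOver X => IsAffine (sch U))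
    (fun ⦃_ _⦄ f => AffCov f) ?_ ?_ j q wz hT ?_ hF
  · rintro V U f ⟨h1, h2, -⟩ n
    exact isAffine_cechNerve f h1 h2 n
  · rintro V U f ⟨-, -, h3⟩
    exact generateSingleton_mem f h3
  · intro U hU s
    have : IsAffine (sch U) := hU
    obtain ⟨V, f, ⟨hV, hf⟩, t, ht⟩ := exists_affine_lift q U s
    exact ⟨V, f, ⟨hV, hU, hf⟩, t, ht⟩

/-- **Cartan's criterion**. -/
theorem acyc_of_cech (F : AbEt X) (hF : Cech F) : Acyc (K643.PushAff.AffB X) F := by
  intro E hE n
  induction n generalizing F with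
  | zero =>
    obtain ⟨I, G, a, b, w, hS, hI⟩ := exists_embedding F
    exact fun x => eq_zero_of_surj hS E ((cech_step a b w hS hF).1 E hE) x
  | succ n ih =>
    obtain ⟨I, G, a, b, w, hS, hI⟩ := exists_embedding F
    intro x
    obtain ⟨y, hy⟩ := CategoryTheory.Abelian.Ext.covariant_sequence_exact₁ (ZE E) hS x
      (CategoryTheory.Abelian.Ext.eq_zero_of_injective _) rfl
    rw [← hy, ih G (cech_step a b w hS hF).2 y, CategoryTheory.Abelian.Ext.zero_comp]

theorem cech_of_isQuasicoherent (M : ModEt X) [M.IsQuasicoherent] : Cech ((toAbEt X).obj M) :=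
  cechAcyc_of_isCart ((K644.Chart.isQuasicoherent_iff_isCart M).1 inferInstance)

/-- **Vanishing of the higher cohomology of quasi-coherent modules on affine objects.** -/
theorem acyc_of_isQuasicoherent (M : ModEt X) [M.IsQuasicoherent] :
    Acyc (K643.PushAff.AffB X) ((toAbEt X).obj M) :=
  acyc_of_cech _ (cech_of_isQuasicoherent M)

end K643.QCAcyc
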