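import Groth.Agent.AlgSp.K643.Qcqs
import Groth.Prelude.Def_AlgSpOX2

/-!
# The base change functor `EtOver Y ⥤ EtOver X` along a representable morphism

* `bcPair`: `bc` preserves binary products (existence of lifts), `bcPair_ext`.
* `isCofilteredOrEmpty`: the categories `U ↓ bc` are cofiltered or empty.
-/

set_option autoImplicit false
universe u

open CategoryTheory CategoryTheory.Limits AlgebraicGeometry Opposite AlgSp

set_option backward.isDefEq.respectTransparency false

namespace K643.BcFlat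

variable {S : Scheme.{u}} {X Y : Sp S} {f : X ⟶ Y} (hf : Representable f)

/-- `X ×_Y (E₁ ×_Y E₂) = (X ×_Y E₁) ×_X (X ×_Y E₂)` -/
theorem isPullback_bc_prod (E₁ E₂ : EtOver Y) :
    IsPullback ((yon S).map ((EtOver.bc hf).map (EtOver.prodFst E₁ E₂)).hom.left)
      ((yon S).map ((EtOver.bc hf).map (EtOver.prodSnd E₁ E₂)).hom.left)
      ((EtOver.bc hf).obj E₁).obj.hom ((EtOver.bc hf).obj E₂).obj.hom := by
  have h1 := EtOver.isPullback_map_bcMap hf (EtOver.prodFst E₁ E₂)
  have h2 := (K643.Qcqs.isPullback_prodObj E₁ E₂)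
  have h3 := h1.paste_vert h2
  have h4 := EtOver.isPullback_bcObj hf E₂
  have e1 : (yon S).map (hf.snd (E₁.prodObj E₂).obj.hom) ≫ (yon S).map (EtOver.prodSnd E₁ E₂).hom.left =
      (yon S).map (EtOver.bcMap hf (EtOver.prodSnd E₁ E₂)).hom.left ≫ (yon S).map (EtOver.bcπ hf E₂) := by
    rw [← Functor.map_comp, ← Functor.map_comp, EtOver.bcMap_snd]
  have e2 : (yon S).map (hf.snd E₁.obj.hom) ≫ E₁.obj.hom = (EtOver.bcObj hf E₁).obj.hom ≫ f :=
    (EtOver.isPullback_bcObj hf E₁).w.symm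
  rw [e1, e2] at h3
  refine IsPullback.of_bot h3 ?_ h4
  exact (EtOver.w (EtOver.bcMap hf (EtOver.prodFst E₁ E₂))).trans
    (EtOver.w (EtOver.bcMap hf (EtOver.prodSnd E₁ E₂))).symm

section Pair

variable {U : EtOver X} {E₁ E₂ : EtOver Y} (g₁ : U ⟶ (EtOver.bc hf).obj E₁)
  (g₂ : U ⟶ (EtOver.bc hf).obj E₂)

/-- the morphism to the base change of a product -/
noncomputable def bcPair : U ⟶ (EtOver.bc hf).obj (EtOver.prodObj E₁ E₂) :=
  have h : (yon S).map g₁.hom.left ≫ ((EtOver.bc hf).obj E₁).obj.hom =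
      (yon S).map g₂.hom.left ≫ ((EtOver.bc hf).obj E₂).obj.hom :=
    (EtOver.w g₁).trans (EtOver.w g₂).symm
  let l := (isPullback_bc_prod hf E₁ E₂).lift ((yon S).map g₁.hom.left) ((yon S).map g₂.hom.left) h
  EtOver.homMk ((yon S).preimage l) (by
    have h2 : (yon S).map ((yon S).preimage l) ≫ (yon S).map ((EtOver.bc hf).map
        (EtOver.prodFst E₁ E₂)).hom.left = (yon S).map g₁.hom.left := by
      rw [Functor.map_preimage]
      exact (isPullback_bc_prod hf E₁ E₂).lift_fst _ _ h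
    rw [← EtOver.w ((EtOver.bc hf).map (EtOver.prodFst E₁ E₂)), ← Category.assoc, h2]
    exact EtOver.w g₁)

theorem bcPair_fst : bcPair hf g₁ g₂ ≫ (EtOver.bc hf).map (EtOver.prodFst E₁ E₂) = g₁ := by
  apply EtOver.hom_ext
  apply (yon S).map_injective
  have h2 := (isPullback_bc_prod hf E₁ E₂).lift_fst ((yon S).map g₁.hom.left)
    ((yon S).map g₂.hom.left) ((EtOver.w g₁).trans (EtOver.w g₂).symm)
  refine Eq.trans ?_ h2
  change (yon S).map ((yon S).preimage _ ≫ _) = _
  rw [Functor.map_comp, Functor.map_preimage]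

theorem bcPair_snd : bcPair hf g₁ g₂ ≫ (EtOver.bc hf).map (EtOver.prodSnd E₁ E₂) = g₂ := by
  apply EtOver.hom_ext
  apply (yon S).map_injective
  have h2 := (isPullback_bc_prod hf E₁ E₂).lift_snd ((yon S).map g₁.hom.left)
    ((yon S).map g₂.hom.left) ((EtOver.w g₁).trans (EtOver.w g₂).symm)
  refine Eq.trans ?_ h2
  change (yon S).map ((yon S).preimage _ ≫ _) = _
  rw [Functor.map_comp, Functor.map_preimage]

theorem bcPair_ext {a b : U ⟶ (EtOver.bc hf).obj (EtOver.prodObj E₁ E₂)}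
    (h₁ : a ≫ (EtOver.bc hf).map (EtOver.prodFst E₁ E₂) = b ≫ (EtOver.bc hf).map (EtOver.prodFst E₁ E₂))
    (h₂ : a ≫ (EtOver.bc hf).map (EtOver.prodSnd E₁ E₂) = b ≫ (EtOver.bc hf).map (EtOver.prodSnd E₁ E₂)) :
    a = b := by
  apply EtOver.hom_ext
  apply (yon S).map_injective
  apply (isPullback_bc_prod hf E₁ E₂).hom_ext
  · have := congrArg (fun k => (yon S).map k.hom.left) h₁
    simpa using this
  · have := congrArg (fun k => (yon S).map k.hom.left) h₂
    simpa using this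

end Pair

/-- lift of an equalizing morphism -/
theorem exists_equalizer {U : EtOver X} {E E' : EtOver Y} (a b : E ⟶ E')
    (g : U ⟶ (EtOver.bc hf).obj E) (h : g ≫ (EtOver.bc hf).map a = g ≫ (EtOver.bc hf).map b) :
    ∃ (E'' : EtOver Y) (e : E'' ⟶ E) (g' : U ⟶ (EtOver.bc hf).obj E''), e ≫ a = e ≫ b ∧
      g' ≫ (EtOver.bc hf).map e = g := by
  let P : EtOver Y := EtOver.prodObj E' E'
  have hl := EtOver.prodIsLimit E' E'
  let p : E ⟶ P := hl.lift (BinaryFan.mk a b)
  let d : E' ⟶ P := hl.lift (BinaryFan.mk (𝟙 _) (𝟙 _))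
  have p1 : p ≫ EtOver.prodFst E' E' = a := hl.fac (BinaryFan.mk a b) ⟨WalkingPair.left⟩
  have p2 : p ≫ EtOver.prodSnd E' E' = b := hl.fac (BinaryFan.mk a b) ⟨WalkingPair.right⟩
  have d1 : d ≫ EtOver.prodFst E' E' = 𝟙 _ := hl.fac (BinaryFan.mk (𝟙 _) (𝟙 _)) ⟨WalkingPair.left⟩
  have d2 : d ≫ EtOver.prodSnd E' E' = 𝟙 _ := hl.fac (BinaryFan.mk (𝟙 _) (𝟙 _)) ⟨WalkingPair.right⟩
  have hp := EtOver.isPullback_bc_map_pullback hf p d
  have hc : g ≫ (EtOver.bc hf).map p = (g ≫ (EtOver.bc hf).map a) ≫ (EtOver.bc hf).map d := by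
    apply bcPair_ext
    · rw [Category.assoc, Category.assoc, Category.assoc, ← Functor.map_comp, ← Functor.map_comp, p1,
        d1, CategoryTheory.Functor.map_id, Category.comp_id]
    · rw [Category.assoc, Category.assoc, Category.assoc, ← Functor.map_comp, ← Functor.map_comp, p2,
        d2, CategoryTheory.Functor.map_id, Category.comp_id, h]
  refine ⟨_, EtOver.pullbackFst p d, hp.lift g _ hc, ?_, hp.lift_fst _ _ _⟩
  have hw : EtOver.pullbackFst p d ≫ p = EtOver.pullbackSnd p d ≫ d := (EtOver.isPullback p d).w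
  have h1 := congrArg (fun k => k ≫ EtOver.prodFst E' E') hw
  have h2 := congrArg (fun k => k ≫ EtOver.prodSnd E' E') hw
  simp only [Category.assoc, p1, p2, d1, d2, Category.comp_id] at h1 h2
  rw [h1, h2]

instance isCofilteredOrEmpty (U : EtOver X) : IsCofilteredOrEmpty (StructuredArrow U (EtOver.bc hf)) where
  cone_objs A B := by
    refine ⟨StructuredArrow.mk (bcPair hf A.hom B.hom),
      StructuredArrow.homMk (EtOver.prodFst A.right B.right) (bcPair_fst hf _ _),
      StructuredArrow.homMk (EtOver.prodSnd A.right B.right) (bcPair_snd hf _ _), trivial⟩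
  cone_maps A B s t := by
    obtain ⟨E'', e, g', he, hg⟩ := exists_equalizer hf s.right t.right A.hom
      ((StructuredArrow.w s).trans (StructuredArrow.w t).symm)
    refine ⟨StructuredArrow.mk g', StructuredArrow.homMk e hg, ?_⟩
    apply StructuredArrow.hom_ext
    exact he

end K643.BcFlat
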