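import Groth.Agent.AlgSp.K643.Qcqs
import Mathlib.AlgebraicGeometry.Morphisms.Descent

/-!
# The Cech resolution of the constant sheaf `Z` on the small etale site of an algebraic space

For `E : EtOver X` surjective onto `X` the free abelian sheaves `Z[E ×_X ... ×_X E]` resolve the
constant sheaf.
-/

set_option autoImplicit false
universe u

open CategoryTheory CategoryTheory.Limits AlgebraicGeometry Opposite AlgSp
open CategoryTheory.Abelian (Ext)
open CategoryTheory.Abelian.Ext
open Groth.Agent.Etbase.FreeSheaf Groth.Agent.Etbase.CechRes Groth.Agent.Etbase.ExtColim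
  Groth.Agent.Etbase.CechFamily Groth.Agent.Etbase

set_option backward.isDefEq.respectTransparency false

namespace K643.CechX

open K643.Site K643.Qcqs

variable {S : Scheme.{u}} {X : Sp S}

theorem hasSheafify_et (X : Sp S) : HasSheafify (etTop X) AddCommGrpCat.{u + 1} := inferInstance
attribute [local instance 3000] hasSheafify_et

theorem wEqualsLocallyBijective_et (X : Sp S) :
    (etTop X).WEqualsLocallyBijective AddCommGrpCat.{u + 1} := inferInstance
attribute [local instance 3000] wEqualsLocallyBijective_et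

theorem hasSheafCompose_et (X : Sp S) :
    (etTop X).HasSheafCompose (forget AddCommGrpCat.{u + 1}) := inferInstance
attribute [local instance 3000] hasSheafCompose_et

theorem hasExt_et (X : Sp S) : HasExt.{u + 1} (AbEt X) := inferInstance
attribute [local instance 3000] hasExt_et

/-- The powers `E ×_X ... ×_X E` (`n + 1` factors) in the small etale site. -/
noncomputable def pw (E : EtOver X) : ℕ → EtOver X
  | 0 => E
  | n + 1 => EtOver.prodObj E (pw E n)

/-- maps to the powers are tuples of maps -/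
noncomputable def prodEquiv (E₁ E₂ W : EtOver X) :
    (W ⟶ EtOver.prodObj E₁ E₂) ≃ (W ⟶ E₁) × (W ⟶ E₂) where
  toFun f := (f ≫ EtOver.prodFst E₁ E₂, f ≫ EtOver.prodSnd E₁ E₂)
  invFun g := BinaryFan.IsLimit.lift' (EtOver.prodIsLimit E₁ E₂) g.1 g.2 |>.1
  left_inv f := by
    apply BinaryFan.IsLimit.hom_ext (EtOver.prodIsLimit E₁ E₂)
    · exact (BinaryFan.IsLimit.lift' (EtOver.prodIsLimit E₁ E₂) _ _).2.1
    · exact (BinaryFan.IsLimit.lift' (EtOver.prodIsLimit E₁ E₂) _ _).2.2
  right_inv g := by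
    ext1
    · exact (BinaryFan.IsLimit.lift' (EtOver.prodIsLimit E₁ E₂) g.1 g.2).2.1
    · exact (BinaryFan.IsLimit.lift' (EtOver.prodIsLimit E₁ E₂) g.1 g.2).2.2

/-- maps to the powers are tuples of maps -/
noncomputable def pwEquiv (E : EtOver X) : ∀ (n : ℕ) (W : EtOver X), (W ⟶ pw E n) ≃ (Fin (n + 1) → (W ⟶ E))
  | 0, W => (Equiv.funUnique (Fin 1) (W ⟶ E)).symm
  | n + 1, W => ((prodEquiv E (pw E n) W).trans (Equiv.prodCongr (Equiv.refl _) (pwEquiv E n W))).trans
      (Fin.consEquiv (fun _ => (W ⟶ E)))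

lemma pwEquiv_comp (E : EtOver X) : ∀ (n : ℕ) {W W' : EtOver X} (g : W' ⟶ W) (f : W ⟶ pw E n)
    (k : Fin (n + 1)), pwEquiv E n W' (g ≫ f) k = g ≫ pwEquiv E n W f k
  | 0, W, W', g, f, k => rfl
  | n + 1, W, W', g, f, k => by
    refine Fin.cases ?_ (fun k => ?_) k
    · change (g ≫ f) ≫ EtOver.prodFst _ _ = g ≫ f ≫ EtOver.prodFst _ _
      rw [Category.assoc]
    · change pwEquiv E n W' ((g ≫ f) ≫ EtOver.prodSnd _ _) k =
        g ≫ pwEquiv E n W (f ≫ EtOver.prodSnd _ _) k
      rw [Category.assoc, pwEquiv_comp E n]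

/-- the terminal presheaf -/
abbrev tp (X : Sp S) : (EtOver X)ᵒᵖ ⥤ Type (u + 1) := (Functor.const _).obj PUnit

/-- the map from a representable presheaf to the terminal one -/
def toTp (E : EtOver X) : uliftYoneda.{u + 1}.obj E ⟶ tp X where
  app _ := ↾fun _ => PUnit.unit

/-- the Cech nerve of `E → X` is represented by the powers of `E` -/
noncomputable def npIso (E : EtOver X) (n : ℕ) :
    uliftYoneda.{u + 1}.obj (pw E n) ≅ NP (toTp E) n :=
  NatIso.ofComponents (fun W => Equiv.toIso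
    { toFun := fun x => ⟨fun k => ⟨pwEquiv E n W.unop x.down k⟩, fun _ _ => rfl⟩
      invFun := fun y => ⟨(pwEquiv E n W.unop).symm (fun k => (y.1 k).down)⟩
      left_inv := fun x => by
        apply ULift.ext
        exact (pwEquiv E n W.unop).symm_apply_apply x.down
      right_inv := fun y => by
        apply CechSet.N.ext
        intro k
        apply ULift.ext
        exact congrFun ((pwEquiv E n W.unop).apply_symm_apply (fun k => (y.1 k).down)) k })
    (fun {W W'} f => by
      apply ConcreteCategory.hom_ext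
      intro x
      apply CechSet.N.ext
      intro k
      exact congrArg ULift.up (pwEquiv_comp E n f.unop x.down k))

/-- free abelian sheaves on isomorphic presheaves -/
noncomputable def ZIso {P Q : (EtOver X)ᵒᵖ ⥤ Type (u + 1)} (e : P ≅ Q) : Z (etTop X) P ≅ Z (etTop X) Q :=
  (presheafToSheaf (etTop X) _).mapIso (Functor.isoWhiskerRight e _)

/-- `Z[terminal presheaf]` is the constant sheaf `Z` -/
noncomputable def ZtpIso (X : Sp S) : Z (etTop X) (tp X) ≅
    (constantSheaf (etTop X) AddCommGrpCat.{u + 1}).obj (AddCommGrpCat.of (ULift.{u + 1} ℤ)) :=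
  (presheafToSheaf (etTop X) _).mapIso (NatIso.ofComponents (fun _ => AddEquiv.toAddCommGrpIso
    (((FreeAbelianGroup.uniqueEquiv PUnit.{u + 2}).trans AddEquiv.ulift.symm :
      FreeAbelianGroup PUnit.{u + 2} ≃+ ULift.{u + 1} ℤ))) (fun f => by
        refine AddCommGrpCat.hom_ext (FreeAbelianGroup.lift_ext _ _ fun p => ?_)
        rfl))

/-- `E → X` is surjective -/
def Surj (E : EtOver X) : Prop := RepWith @Surjective E.obj.hom

lemma locSurj_toTp {E : EtOver X} (hE : Surj E) : LocSurj (etTop X) (toTp E) := by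
  intro W _
  refine ⟨Sieve.ofArrows (fun _ : Unit => EtOver.prodObj W E) (fun _ => EtOver.prodFst W E), ?_, ?_⟩
  · rw [mem_iff]
    intro x
    have h1 : Surjective (schMap (EtOver.prodFst W E)) :=
      hE.2 _ _ _ (isPullback_prodObj W E).flip
    obtain ⟨v, hv⟩ := h1.surj x
    exact ⟨_, EtOver.prodFst W E, v, Sieve.ofArrows_mk _ _ (), hv⟩
  · rintro W' f hf
    obtain ⟨_, g, _, ⟨⟩, hg⟩ := hf
    exact ⟨⟨g ≫ EtOver.prodSnd W E⟩, rfl⟩

/-- `Z[E ×_X ... ×_X E]` is the term of the Cech resolution -/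
noncomputable def npZIso (E : EtOver X) (n : ℕ) :
    Z (etTop X) (uliftYoneda.{u + 1}.obj (pw E n)) ≅ Z (etTop X) (NP (toTp E) n) :=
  ZIso (npIso E n)

/-- `0 → K_0 → Z[E] → Z → 0` -/
lemma shortExact_const {E : EtOver X} (hE : Surj E) :
    ∃ (i : KS (etTop X) (toTp E) 0 ⟶ Z (etTop X) (uliftYoneda.{u + 1}.obj E))
      (p : Z (etTop X) (uliftYoneda.{u + 1}.obj E) ⟶
        (constantSheaf (etTop X) AddCommGrpCat.{u + 1}).obj (AddCommGrpCat.of (ULift.{u + 1} ℤ)))
      (w : i ≫ p = 0), (ShortComplex.mk i p w).ShortExact := by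
  obtain ⟨i, w, h⟩ := shortExact_augS (etTop X) (toTp E) (locSurj_toTp hE)
  refine ⟨i ≫ (npZIso E 0).inv, (npZIso E 0).hom ≫ augS (etTop X) (toTp E) ≫ (ZtpIso X).hom, ?_, ?_⟩
  · rw [Category.assoc, Iso.inv_hom_id_assoc, ← Category.assoc, w, Limits.zero_comp]
  · refine ShortComplex.shortExact_of_iso (S₁ := ShortComplex.mk i (augS (etTop X) (toTp E)) w)
      (ShortComplex.isoMk (Iso.refl _) (npZIso E 0).symm (ZtpIso X) ?_ ?_) h
    · simp
    · simp

/-- `0 → K_{n+1} → Z[E^{n+2}] → K_n → 0` -/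
lemma shortExact_K (E : EtOver X) (n : ℕ) :
    ∃ (i : KS (etTop X) (toTp E) (n + 1) ⟶ Z (etTop X) (uliftYoneda.{u + 1}.obj (pw E (n + 1))))
      (p : Z (etTop X) (uliftYoneda.{u + 1}.obj (pw E (n + 1))) ⟶ KS (etTop X) (toTp E) n)
      (w : i ≫ p = 0), (ShortComplex.mk i p w).ShortExact := by
  obtain ⟨i, q, w, h⟩ := shortExact_KS (etTop X) (toTp E) n
  refine ⟨i ≫ (npZIso E (n + 1)).inv, (npZIso E (n + 1)).hom ≫ q, ?_, ?_⟩
  · rw [Category.assoc, Iso.inv_hom_id_assoc, w]
  · refine ShortComplex.shortExact_of_iso (S₁ := ShortComplex.mk i q w)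
      (ShortComplex.isoMk (Iso.refl _) (npZIso E (n + 1)).symm (Iso.refl _) ?_ ?_) h
    · simp
    · simp

/-- powers of qcqs objects are qcqs -/
theorem pw_qcqs [QuasiSeparatedSpace ↥S] (hqs : IsQuasiSeparatedSp X) {E : EtOver X}
    (h : E ∈ QCQS X) : ∀ n, pw E n ∈ QCQS X
  | 0 => h
  | n + 1 => prod_qcqs hqs h (pw_qcqs hqs h n)

/-- a quasi-compact space has a surjective affine object in its small etale site -/
theorem exists_affine_surj (hqc : IsQuasiCompactSp X) :
    ∃ E : EtOver X, IsAffine (sch E) ∧ Surj E := by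
  obtain ⟨U, p, he, hs, hU⟩ := hqc
  obtain ⟨V, q, hq, hq', hV⟩ := Scheme.exists_hom_isAffine_of_isZariskiLocalAtSource @Etale U.left
  let T : Over S := Over.mk (q ≫ U.hom)
  let jj : T ⟶ U := Over.homMk q rfl
  have he' : RepWith @Etale ((yon S).map jj ≫ p) :=
    (repWith_isMultiplicative (S := S) @Etale).comp_mem _ _ ((repWith_yon_map_iff _ _).2 hq') he
  exact ⟨EtOver.mk ((yon S).map jj ≫ p) he', hV,
    (repWith_isMultiplicative (S := S) @Surjective).comp_mem _ _ ((repWith_yon_map_iff _ _).2 hq) hs⟩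

end K643.CechX
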