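import Groth.Agent.AlgSp.K643.SqSp
import Groth.Prelude.Def_AlgSpDec

/-!
# Vanishing of cohomology above the dimension, by Mayer-Vietoris

* `surj_of_dim'`: surjectivity of restriction in top degree for open immersions of quasi-compact objects;
* `Sq.compact_A`: the intersection `U ∩ V` is quasi-compact;
* `HG_eq_zero_of_isEmpty`, `subsingleton_HEt_of_isIso`: the two ends of a filtration;
* `Sq.step`: the induction step.
-/

set_option autoImplicit false
universe u

open CategoryTheory CategoryTheory.Limits AlgebraicGeometry Opposite AlgSp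
open CategoryTheory.Abelian (Ext)
open CategoryTheory.Abelian.Ext
open Groth.Agent.Etbase.FreeSheaf

set_option backward.isDefEq.respectTransparency false

namespace K643.SqSp

open K643.CechX K643.ObjCoh K643.PushAff K646.EtSite K643.ZarCmp K643.MVSet

attribute [local instance 3000] hasSheafify_et wEqualsLocallyBijective_et hasSheafCompose_et hasExt_et

variable {S : Scheme.{u}} {X : Sp S}

/-- lifting through open immersions -/
theorem exists_lift_open {Z A E : EtOver X} (g : A ⟶ E) (hg : IsOpenImmersion (mor g)) (h : Z ⟶ E)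
    (hr : Set.range (mor h) ⊆ Set.range (mor g)) : ∃ h' : Z ⟶ A, h' ≫ g = h := by
  let l : sch Z ⟶ sch A := IsOpenImmersion.lift (mor g) (mor h) hr
  have hl : l ≫ mor g = mor h := IsOpenImmersion.lift_fac _ _ _
  have w1 : l ≫ A.obj.left.hom = Z.obj.left.hom := by
    rw [← Over.w g.hom.left, ← Over.w h.hom.left, ← Category.assoc]
    exact congrArg (fun t => t ≫ E.obj.left.hom) hl
  let l' : Z.obj.left ⟶ A.obj.left := Over.homMk l w1
  have hl' : l' ≫ g.hom.left = h.hom.left := Over.OverMorphism.ext hl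
  have w2 : (yon S).map l' ≫ A.obj.hom = Z.obj.hom := by
    rw [← EtOver.w g, ← EtOver.w h, ← Category.assoc, ← Functor.map_comp, hl']
  exact ⟨EtOver.homMk l' w2, EtOver.hom_ext _ _ hl'⟩

/-- surjectivity of restriction in top degree -/
theorem surj_of_dim' {A E : EtOver X} (g : A ⟶ E) (hg : IsOpenImmersion (mor g)) (hA : CompactSpace ↥(sch A))
    (h1 : CompactSpace ↥(sch E)) (h2 : QuasiSeparatedSpace ↥(sch E)) (d : ℕ)
    (hd : topologicalKrullDim ↥(sch E) ≤ d) (F : AbEt X) (hF : Acyc (AffB X) F) (x' : HE A F d) :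
    ∃ x : HE E F d, (mk₀ (ZEmap g)).comp x (zero_add _) = x' := by
  let W : (sch E).Opens := (mor g).opensRange
  obtain ⟨p, hp⟩ := exists_lift_opn g W (fun _ h => h)
  obtain ⟨q, hq⟩ := exists_lift_open g hg (opnι E W) (by rw [range_opnι]; exact fun _ h => h)
  have hm : Mono (mor g) := inferInstance
  have hm' : Mono g := mono_of_mono_mor g
  have e1 : p ≫ q = 𝟙 _ := by rw [← cancel_mono g, Category.assoc, hq, hp, Category.id_comp]
  have hW : IsCompact (W : Set ↥(sch E)) := isCompact_range (mor g).continuous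
  obtain ⟨x, hx⟩ := surj_of_dim E d hd F hF W hW ((mk₀ (ZEmap q)).comp x' (zero_add _))
  refine ⟨x, ?_⟩
  rw [← hp, ZEmap_comp, ← mk₀_comp_mk₀_assoc, hx, mk₀_comp_mk₀_assoc, ← ZEmap_comp, e1, ZEmap_id, mk₀_id_comp]

section Ends

/-- cohomology over an empty space vanishes -/
theorem HG_eq_zero_of_isEmpty {G : Sp S} (j : G ⟶ X) [hG' : IsEmpty (Points G)] (F : AbEt X) (n : ℕ)
    (x : HG j F n) : x = 0 := by
  have h : IsZero (Z (etTop X) (hG j)) := by
    rw [IsZero.iff_id_eq_zero]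
    refine hom_ext_val fun E g => ?_
    have : IsEmpty ↥(sch E) := ⟨fun y => hG'.false (Points.ofPt g.1 y)⟩
    have := subsingleton_of_isEmpty (Z (etTop X) (hG j)) E
    exact Subsingleton.elim _ _
  rw [← Ext.mk₀_id_comp x, h.eq_of_src (𝟙 _) 0, Ext.mk₀_zero, Ext.zero_comp]

/-- if `j` is an isomorphism then `Z[hG j]` is the constant sheaf -/
noncomputable def hGIso {G : Sp S} (j : G ⟶ X) [IsIso j] : hG j ≅ tp X :=
  NatIso.ofComponents (fun E => Equiv.toIso
    { toFun := fun _ => PUnit.unit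
      invFun := fun _ => ⟨E.unop.obj.hom ≫ inv j, by rw [Category.assoc, IsIso.inv_hom_id, Category.comp_id]⟩
      left_inv := fun x => Subtype.ext ((IsIso.eq_comp_inv j).2 x.2).symm
      right_inv := fun _ => rfl }) (fun f => rfl)

theorem subsingleton_HEt_of_isIso {G : Sp S} (j : G ⟶ X) [IsIso j] (F : AbEt X) (n : ℕ)
    (h : ∀ x : HG j F n, x = 0) : Subsingleton (HEt X F n) := by
  let e := ZIso (hGIso j) ≪≫ ZtpIso X
  refine ⟨fun a b => ?_⟩
  have key : ∀ a : HEt X F n, a = 0 := by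
    intro a
    have h1 := h ((Ext.mk₀ e.hom).comp a (zero_add n))
    have h2 := congrArg (fun z => (Ext.mk₀ e.inv).comp z (zero_add n)) h1
    simp only [Ext.comp_zero] at h2
    rw [Ext.mk₀_comp_mk₀_assoc, Iso.inv_hom_id, Ext.mk₀_id_comp] at h2
    exact h2
  rw [key a, key b]

end Ends

variable {U W : Sp S} {k : U ⟶ W} {j : W ⟶ X} {V A : EtOver X} {f : (yon S).obj V.obj.left ⟶ W} {a : A ⟶ V}
    {fa : (yon S).obj A.obj.left ⟶ U}

/-- the induction step -/
theorem Sq.step (h : Sq k j V A f a fa) (F : AbEt X) (d : ℕ)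
    (h1 : ∀ q, d < q → ∀ x : HG (k ≫ j) F q, x = 0) (h2 : ∀ q, d < q → ∀ x : HE V F q, x = 0)
    (h3 : ∀ q, d < q → ∀ x : HE A F q, x = 0)
    (h4 : ∀ x' : HE A F d, ∃ x : HE V F d, (mk₀ (ZEmap a)).comp x (zero_add _) = x') (q : ℕ) (hq : d < q)
    (x : HG j F q) : x = 0 := by
  obtain ⟨w, hS⟩ := MVSet.shortExact _ _ _ _ h.isMV
  obtain ⟨n, rfl⟩ : ∃ n, q = n + 1 := ⟨q - 1, by omega⟩
  obtain ⟨η, rfl⟩ := Groth.Agent.CohtopA.MVElem.exists_δ_ext _ _ _ _ w hS F n x (h1 _ hq _) (h2 _ hq _)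
  rcases (show d ≤ n by omega).eq_or_lt with rfl | hn
  · obtain ⟨y, rfl⟩ := h4 η
    exact Groth.Agent.CohtopA.MVElem.δ_ext_right _ _ _ _ w hS F _ y
  · rw [h3 n hn η, Ext.comp_zero]

/-- the intersection of `U` and `V` is quasi-compact -/
theorem Sq.compact_A (h : Sq k j V A f a fa) [QuasiSeparatedSpace ↥S] (hqs : IsQuasiSeparatedSp X)
    (hV : V ∈ Qcqs.QCQS X) (V' : EtOver X) (hV' : V' ∈ Qcqs.QCQS X) (f' : (yon S).obj V'.obj.left ⟶ U)
    (hf'j : f' ≫ k ≫ j = V'.obj.hom) (hf' : RepWith @Etale f') (hs' : RepWith @Surjective f') :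
    CompactSpace ↥(sch A) := by
  have hj := h.mono_j
  let P := EtOver.prodObj V V'
  have hP : P ∈ Qcqs.QCQS X := Qcqs.prod_qcqs hqs hV hV'
  have e0 : ((yon S).map (EtOver.prodSnd V V').hom.left ≫ f') ≫ k ≫ j = P.obj.hom := by
    rw [Category.assoc, hf'j]
    exact EtOver.w _
  let x : (hG (k ≫ j)).obj (op P) := ⟨(yon S).map (EtOver.prodSnd V V').hom.left ≫ f', e0⟩
  have e2 : ((yon S).map (EtOver.prodFst V V').hom.left ≫ f) ≫ j = P.obj.hom := by
    rw [Category.assoc, h.fj]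
    exact EtOver.w _
  obtain ⟨m, -, hm⟩ := h.exists_pb x (EtOver.prodFst V V')
    ((cancel_mono j).1 ((Category.assoc _ _ _).trans (e0.trans e2.symm)))
  obtain ⟨c, s, fst, sq⟩ := hf'.1 fa
  have hs : Etale s.left := hf'.2 _ _ _ sq
  have hss : Surjective s.left := hs'.2 _ _ _ sq
  obtain ⟨l, hl⟩ := (yon S).map_surjective fst
  let C := ofEt A s hs
  have e1 : (yon S).map l ≫ V'.obj.hom = C.obj.hom := by
    rw [hl, ← hf'j, ← Category.assoc, sq.w, Category.assoc, h.faj]
    rfl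
  let t : C ⟶ P := (prodEquiv V V' C).symm (ofEtHom A s hs ≫ a, EtOver.homMk l e1)
  have ht : t ≫ EtOver.prodFst V V' = ofEtHom A s hs ≫ a :=
    congrArg Prod.fst ((prodEquiv V V' C).apply_symm_apply (ofEtHom A s hs ≫ a, EtOver.homMk l e1))
  have htm : t ≫ m = ofEtHom A s hs := by
    apply h.inj
    rw [Category.assoc, hm, ht]
  have hsurj : Function.Surjective (mor m) := by
    intro y
    obtain ⟨z, hz⟩ := hss.surj y
    refine ⟨mor t z, ?_⟩
    have h1 : mor (t ≫ m) z = mor (ofEtHom A s hs) z := by rw [htm]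
    exact h1.trans hz
  have := hP.1
  exact hsurj.compactSpace (mor m).continuous

theorem krull_le (V : EtOver X) : topologicalKrullDim ↥(sch V) ≤ AlgSp.dim X :=
  le_iSup_of_le V.obj.left (le_iSup_of_le V.obj.hom (le_iSup_of_le V.property le_rfl))

theorem Sq.isOpenImmersion_mor (h : Sq k j V A f a fa) : IsOpenImmersion (mor a) := h.hk.2 _ _ _ h.pb

/-- the induction step for acyclic sheaves on spaces of bounded dimension -/
theorem Sq.step_dim (h : Sq k j V A f a fa) [QuasiSeparatedSpace ↥S] (hqs : IsQuasiSeparatedSp X)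
    (hV : V ∈ Qcqs.QCQS X) (V' : EtOver X) (hV' : V' ∈ Qcqs.QCQS X) (f' : (yon S).obj V'.obj.left ⟶ U)
    (hf'j : f' ≫ k ≫ j = V'.obj.hom) (hf' : RepWith @Etale f') (hs' : RepWith @Surjective f')
    (F : AbEt X) (hF : Acyc (AffB X) F) (d : ℕ) (hd : AlgSp.dim X ≤ (d : WithBot ℕ∞))
    (h1 : ∀ q, d < q → ∀ x : HG (k ≫ j) F q, x = 0) (q : ℕ) (hq : d < q) (x : HG j F q) : x = 0 := by
  have hA := h.compact_A hqs hV V' hV' f' hf'j hf' hs'
  have ho := h.isOpenImmersion_mor
  have hA' : QuasiSeparatedSpace ↥(sch A) := by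
    have := hV.2
    exact quasiSeparatedSpace_of_quasiSeparated (mor a)
  have hV1 := hV.1
  have hV2 := hV.2
  exact h.step F d h1 (fun q hq x => eq_zero_of_dim V d ((krull_le V).trans hd) F hF q hq x)
    (fun q hq x => eq_zero_of_dim A d ((krull_le A).trans hd) F hF q hq x)
    (fun x' => surj_of_dim' a ho hA hV1 hV2 d ((krull_le V).trans hd) F hF x') q hq x

/-- existence of the fourth corner -/
theorem exists_sq {U W : Sp S} {k : U ⟶ W} {j : W ⟶ X} {V₀ : Over S} {f : (yon S).obj V₀ ⟶ W} (hjm : Mono j)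
    (hje : RepWith @Etale j) (hk : RepWith @IsOpenImmersion k) (hf : RepWith @Etale f) (hs : RepWith @Surjective f)
    (iso : ∃ (T : Sp S) (i : T ⟶ W), IsRedInduced (Set.range (Points.map k))ᶜ i ∧
      ∀ (P : Sp S) (fst : P ⟶ T) (snd : P ⟶ (yon S).obj V₀), IsPullback fst snd i f → IsIso fst) :
    ∃ (A : EtOver X) (a : A ⟶ EtOver.mk (f ≫ j) ((repWith_isMultiplicative (S := S) @Etale).comp_mem _ _ hf hje))
      (fa : (yon S).obj A.obj.left ⟶ U), Sq k j _ A f a fa := by
  obtain ⟨b, s, fa, sq⟩ := hk.1 f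
  have hso : IsOpenImmersion s.left := hk.2 _ _ _ sq
  have hse : Etale s.left := inferInstance
  let V : EtOver X := EtOver.mk (f ≫ j) ((repWith_isMultiplicative (S := S) @Etale).comp_mem _ _ hf hje)
  refine ⟨ofEt V s hse, ofEtHom V s hse, fa, { fj := rfl, faj := ?_, pb := sq, mono_j := hjm, hk := hk, hf := hf, hs := hs, iso := iso }⟩
  rw [← Category.assoc, sq.w, Category.assoc]
  rfl

end K643.SqSp
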