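import Groth.Agent.AlgSp.K643.CechX

/-!
# Etale cohomology of a qcqs algebraic space commutes with filtered colimits
-/

set_option autoImplicit false
universe v' w' u

open CategoryTheory CategoryTheory.Limits AlgebraicGeometry Opposite AlgSp
open CategoryTheory.Abelian (Ext)
open Groth.Agent.Etbase.FreeSheaf Groth.Agent.Etbase.CechRes Groth.Agent.Etbase.ExtColim
  Groth.Agent.Etbase.CechFamily Groth.Agent.Etbase

set_option backward.isDefEq.respectTransparency false

namespace K643.FiltColim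

open K643.Site K643.Qcqs K643.CechX

variable {S : Scheme.{u}} {X : Sp S}

attribute [local instance 3000] hasSheafify_et wEqualsLocallyBijective_et hasSheafCompose_et hasExt_et

section Iso

variable {C : Type*} [Category* C] [Abelian C] [HasExt.{w'} C]
variable {I : Type*} [Category* I] [HasColimitsOfShape I C] [IsFiltered I]

lemma fp_of_iso {n : ℕ} {P Q : C} (e : P ≅ Q) (h : FP.{w'} I n P) : FP.{w'} I n Q :=
  FP.of_isFinSum (B := fun Z => Z = P)
    ⟨{ κ := Unit
       P := fun _ => P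
       hP := fun _ => rfl
       ι := fun _ => e.hom
       π := fun _ => e.inv
       total := by simp }⟩ (by rintro P rfl; exact h)

end Iso

variable (I : Type w') [Category.{v'} I] [IsFiltered I]
  [HasColimitsOfShape I AddCommGrpCat.{u + 1}]
  [PreservesColimitsOfShape I (forget AddCommGrpCat.{u + 1})]
  [HasExactColimitsOfShape I (AbEt X)]

/-- `Ext^n(Z[E], -)` commutes with filtered colimits for `E` qcqs. -/
theorem fp_Z {E : EtOver X} (hE : E ∈ QCQS X) (n : ℕ) :
    FP.{u + 1} (C := AbEt X) I n (Z (etTop X) (uliftYoneda.{u + 1}.obj E)) :=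
  SiteColim.fp.{u + 1} (J := etTop X) (cohBasis (X := X)) n hE

/-- `H^n(X, -)` commutes with filtered colimits, elementwise form. -/
theorem fp_const [QuasiSeparatedSpace ↥S] (hqc : IsQuasiCompactSp X) (hqs : IsQuasiSeparatedSp X)
    (n : ℕ) : FP.{u + 1} (C := AbEt X) I n
      ((constantSheaf (etTop X) AddCommGrpCat.{u + 1}).obj (AddCommGrpCat.of (ULift.{u + 1} ℤ))) := by
  obtain ⟨E, hE, hs⟩ := exists_affine_surj hqc
  have hq : ∀ n, pw E n ∈ QCQS X := pw_qcqs hqs (qcqs_of_isAffine hE)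
  let cst : AbEt X := (constantSheaf (etTop X) AddCommGrpCat.{u + 1}).obj
    (AddCommGrpCat.of (ULift.{u + 1} ℤ))
  let K : AbEt X → Prop := fun P => P = cst ∨ ∃ n, P = KS (etTop X) (toTp E) n
  let B : AbEt X → Prop := fun P => ∃ n, P = Z (etTop X) (uliftYoneda.{u + 1}.obj (pw E n))
  have hR : HasRes B K := by
    rintro P (rfl | ⟨n, rfl⟩)
    · obtain ⟨i, p, w, h⟩ := shortExact_const hs
      exact ⟨_, _, i, p, w, h, ⟨0, rfl⟩, Or.inr ⟨0, rfl⟩⟩
    · obtain ⟨i, p, w, h⟩ := shortExact_K E n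
      exact ⟨_, _, i, p, w, h, ⟨n + 1, rfl⟩, Or.inr ⟨n + 1, rfl⟩⟩
  refine FP.of_hasRes (B := B) (K := K) hR ?_ (Or.inl rfl)
  rintro P ⟨m, rfl⟩
  exact fp_Z I (hq m) n

/-- `H^n(X, -)` commutes with filtered colimits. -/
theorem preservesColimits_HEtF [QuasiSeparatedSpace ↥S] (hqc : IsQuasiCompactSp X)
    (hqs : IsQuasiSeparatedSp X) (n : ℕ) : PreservesColimitsOfShape I (HEtF X n) :=
  (fp_const I hqc hqs n).preservesColimitsOfShape

end K643.FiltColim
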