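import Groth.Agent.AlgSp.K643.FpHom
import Groth.Agent.AlgSp.K643.FiltColim
import Mathlib.CategoryTheory.Presentable.Directed

/-!
# Vanishing of cohomology for filtered colimits of modules on a qcqs space
-/

set_option autoImplicit false
universe u

open CategoryTheory CategoryTheory.Limits AlgebraicGeometry Opposite AlgSp

set_option backward.isDefEq.respectTransparency false

namespace K643.FiltVan

open K643.FiltColim K643.CechX

attribute [local instance 3000] hasSheafify_et wEqualsLocallyBijective_et hasSheafCompose_et hasExt_et

variable {S : Scheme.{u}} {X : Sp S}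

theorem isZero_of_colimit {I : Type*} [Category I] {C : Type*} [Category C] [HasZeroMorphisms C] {F : I ⥤ C} {c : Cocone F}
    (hc : IsColimit c) (h : ∀ i, IsZero (F.obj i)) : IsZero c.pt := by
  rw [IsZero.iff_id_eq_zero]
  exact hc.hom_ext fun i => (h i).eq_of_src _ _

/-- if all terms of a filtered system of modules have vanishing cohomology in degree `n` so does the colimit -/
theorem subsingleton_of_colimit [QuasiSeparatedSpace ↥S] (hqc : IsQuasiCompactSp X) (hqs : IsQuasiSeparatedSp X) (n : ℕ)
    {J : Type (u + 1)} [SmallCategory J] [IsFiltered J] {D : J ⥤ ModEt X} {c : Cocone D} (hc : IsColimit c)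
    (h : ∀ j, Subsingleton (HModEt X (D.obj j) n)) : Subsingleton (HModEt X c.pt n) := by
  obtain ⟨α, _, _, _, F, _⟩ := IsFiltered.exists_directed J
  have h1 : IsColimit (c.whisker F) := (Functor.Final.isColimitWhiskerEquiv F c).symm hc
  have := FpHom.preservesColimit_toAbEt (F ⋙ D)
  have := preservesColimits_HEtF α hqc hqs n
  have h2 := isColimitOfPreserves (HEtF X n) (isColimitOfPreserves (toAbEt X) h1)
  have h3 := isZero_of_colimit h2 fun i => (AddCommGrpCat.isZero_iff_subsingleton.2 (h (F.obj i)))
  exact AddCommGrpCat.isZero_iff_subsingleton.1 h3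

end K643.FiltVan
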