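import Groth.Agent.AlgSp.K643.ModColim
import Groth.Agent.AlgSp.K643.CechX
import Groth.Agent.Ega1.ModToSheaf

/-!
# `Hom(G, -)` commutes with filtered colimits for `G` of finite presentation on a qcqs space

* `secSurj`, `secInj`: sections of modules over qcqs objects commute with filtered colimits.
* `exists_finite_cover`: refine a family covering the top by a finite affine one.
-/

set_option autoImplicit false
universe u

open CategoryTheory CategoryTheory.Limits AlgebraicGeometry Opposite AlgSp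
open Groth.Agent.Etbase

set_option backward.isDefEq.respectTransparency false

namespace K643.FpHom

open K643.Site K643.Qcqs K643.CechX K643.ModColim K643.ModHom

variable {S : Scheme.{u}} {X : Sp S}

attribute [local instance 3000] hasSheafify_et wEqualsLocallyBijective_et hasSheafCompose_et

section Sections

variable {I : Type (u + 1)} [SmallCategory I] [IsFiltered I] {F : I ⥤ ModEt X} {c : Cocone F}

lemma preservesColimit_toAbEt (F : I ⥤ ModEt X) : PreservesColimit F (toAbEt X) := by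
  have := Groth.Agent.Ega1.ModToSheaf.preservesColimits_toSheaf (OEtRing X)
  infer_instance

theorem secSurj (hc : IsColimit c) {E : EtOver X} (hE : E ∈ QCQS X) : SecSurj c E := by
  intro s
  have := preservesColimit_toAbEt F
  let T := toAbEt X
  let e : colimit (F ⋙ T) ≅ T.obj c.pt :=
    (colimit.isColimit (F ⋙ T)).coconePointUniqueUpToIso (isColimitOfPreserves T hc)
  have he : ∀ i, colimit.ι (F ⋙ T) i ≫ e.hom = T.map (c.ι.app i) := fun i =>
    IsColimit.comp_coconePointUniqueUpToIso_hom _ _ _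
  obtain ⟨i, t, ht⟩ := SiteColim.sec_surj (cohBasis (X := X)) (F ⋙ T) hE (e.inv.hom.app (op E) s)
  refine ⟨i, t, ?_⟩
  have h1 := congrArg (fun a => (a.hom.app (op E)).hom t) (he i)
  have h2 := congrArg (fun x => (e.hom.hom.app (op E)).hom x) ht
  have h3 := congrArg (fun a => (a.hom.app (op E)).hom s) e.inv_hom_id
  exact h1.symm.trans (h2.trans h3)

theorem secInj (hc : IsColimit c) {E : EtOver X} (hE : E ∈ QCQS X) : SecInj c E := by
  intro i t ht
  have := preservesColimit_toAbEt F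
  let T := toAbEt X
  let e : colimit (F ⋙ T) ≅ T.obj c.pt :=
    (colimit.isColimit (F ⋙ T)).coconePointUniqueUpToIso (isColimitOfPreserves T hc)
  have he : ∀ i, T.map (c.ι.app i) ≫ e.inv = colimit.ι (F ⋙ T) i := fun i =>
    (isColimitOfPreserves T hc).comp_coconePointUniqueUpToIso_hom (colimit.isColimit (F ⋙ T)) i
  have h1 := congrArg (fun a => (a.hom.app (op E)).hom t) (he i)
  have h2 := congrArg (fun x => (e.inv.hom.app (op E)).hom x) ht
  obtain ⟨j, g, hg⟩ := SiteColim.sec_inj (cohBasis (X := X)) (F ⋙ T) hE i t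
    (h1.symm.trans (h2.trans (map_zero (e.inv.hom.app (op E)).hom)))
  exact ⟨j, g, hg⟩

end Sections

section Cover

lemma coversTop_of_cover {κ : Type*} {Y : κ → EtOver X} {E₀ : EtOver X} (hs : Surj E₀)
    (h : Sieve.ofObjects Y E₀ ∈ etTop X E₀) : (etTop X).CoversTop Y := by
  intro E
  refine (etTop X).transitive (S := Sieve.ofArrows (fun _ : Unit => EtOver.prodObj E E₀)
    (fun _ => EtOver.prodFst E E₀)) ?_ _ ?_
  · rw [mem_iff]
    intro x
    have h1 : Surjective (schMap (EtOver.prodFst E E₀)) :=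
      hs.2 _ _ _ (isPullback_prodObj E E₀).flip
    obtain ⟨v, hv⟩ := h1.surj x
    exact ⟨_, EtOver.prodFst E E₀, v, Sieve.ofArrows_mk _ _ (), hv⟩
  · rintro Z f hf
    obtain ⟨_, g, _, ⟨⟩, rfl⟩ := hf
    refine (etTop X).superset_covering ?_ ((etTop X).pullback_stable (g ≫ EtOver.prodSnd E E₀) h)
    rintro W k ⟨i, ⟨l⟩⟩
    exact ⟨i, ⟨l⟩⟩

theorem exists_finite_cover (hqc : IsQuasiCompactSp X) {κ : Type*} {Z : κ → EtOver X}
    (hZ : (etTop X).CoversTop Z) : ∃ (m : ℕ) (Y : Fin m → EtOver X) (i : Fin m → κ)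
      (_ : ∀ a, Y a ⟶ Z (i a)), (∀ a, IsAffine (sch (Y a))) ∧ (etTop X).CoversTop Y := by
  obtain ⟨E₀, hE₀, hs⟩ := exists_affine_surj hqc
  have h0 := (mem_iff _ _).1 (hZ E₀)
  have key : ∀ x : ↥(sch E₀), ∃ (W : EtOver X) (h : W ⟶ E₀) (k : κ) (_ : W ⟶ Z k),
      IsAffine (sch W) ∧ x ∈ Set.range (schMap h) := by
    intro x
    obtain ⟨V, g, v, ⟨k, ⟨l⟩⟩, hv⟩ := h0 x
    obtain ⟨W, j, w, hW, -, hw⟩ := exists_affine v
    refine ⟨W, j ≫ g, k, j ≫ l, hW, w, ?_⟩
    rw [schMap_comp, Scheme.Hom.comp_apply, hw, hv]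
  choose W h k l hW hx using key
  have hopen : ∀ x, IsOpen (Set.range (schMap (h x))) := fun x =>
    (Scheme.Hom.isOpenMap (schMap (h x))).isOpen_range
  obtain ⟨t, ht⟩ := isCompact_univ.elim_finite_subcover (fun x => Set.range (schMap (h x))) hopen
    (fun x _ => Set.mem_iUnion.2 ⟨x, hx x⟩)
  let e := (t.equivFin).symm
  refine ⟨t.card, fun a => W (e a).1, fun a => k (e a).1, fun a => l (e a).1, fun a => hW _, ?_⟩
  refine coversTop_of_cover hs ?_
  rw [mem_iff]
  intro x
  have := ht (Set.mem_univ x)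
  simp only [Set.mem_iUnion] at this
  obtain ⟨y, hy, v, hv⟩ := this
  obtain ⟨a, ha⟩ := e.surjective ⟨y, hy⟩
  have hay : (e a).1 = y := congrArg Subtype.val ha
  subst hay
  exact ⟨_, h (e a).1, v, ⟨a, ⟨𝟙 _⟩⟩, hv⟩

end Cover

/-- products in the site are qcqs -/
lemma prod_mem_qcqs [QuasiSeparatedSpace ↥S] (hqs : IsQuasiSeparatedSp X) {E₁ E₂ : EtOver X}
    (h₁ : E₁ ∈ QCQS X) (h₂ : E₂ ∈ QCQS X) : (E₁ ⨯ E₂) ∈ QCQS X := by
  let e : EtOver.prodObj E₁ E₂ ≅ (E₁ ⨯ E₂) :=
    (EtOver.prodIsLimit E₁ E₂).conePointUniqueUpToIso (limit.isLimit _)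
  exact qcqs_of_iso e (prod_qcqs hqs h₁ h₂)

theorem preservesColimitsOfShape_coyoneda [QuasiSeparatedSpace ↥S] (hqc : IsQuasiCompactSp X)
    (hqs : IsQuasiSeparatedSp X) (G : ModEt X) [G.IsFinitePresentation]
    (I : Type (u + 1)) [SmallCategory I] [IsFiltered I] :
    PreservesColimitsOfShape I (coyoneda.obj (op G)) := by
  obtain ⟨σ, hσ⟩ := SheafOfModules.IsFinitePresentation.exists_quasicoherentData G
  obtain ⟨m, Y, i, f, hY, hYc⟩ := exists_finite_cover hqc σ.coversTop
  choose P hP hP' using fun a => exists_pres_restr (G := G) (σ.presentation (i a))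
    (hσ.isFinite_presentation (i a)).isFiniteType_generators.finite
    (hσ.isFinite_presentation (i a)).isFiniteType_relations.finite (f a)
  refine ⟨fun {F} => ⟨fun {c} hc => ?_⟩⟩
  exact isColimit_coyoneda c hYc P hP hP' (fun k => secSurj hc (qcqs_of_isAffine (hY k)))
    (fun k => secInj hc (qcqs_of_isAffine (hY k)))
    (fun k l => secInj hc (prod_mem_qcqs hqs (qcqs_of_isAffine (hY k)) (qcqs_of_isAffine (hY l))))

end K643.FpHom
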