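import Groth.Agent.Etbase.FreeSheaf
import Mathlib.Algebra.Homology.CommSq
import Mathlib.CategoryTheory.Sites.SheafCohomology.MayerVietoris

/-!
# Mayer-Vietoris squares of presheaves of sets

`IsMV J au av uw vw`: the square `A ⟶ U, A ⟶ V, U ⟶ W, V ⟶ W` of presheaves of sets is a Mayer-Vietoris square for the topology `J`:
`U ⟶ W` is injective, `A = U ×_W V`, `W` is covered by `U` and `V`, and two sections of `V` with the same image in `W` agree locally outside
of `U`. Then `0 → Z[A] → Z[U] ⊕ Z[V] → Z[W] → 0` is exact (`IsMV.shortExact`).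
-/

set_option autoImplicit false
universe u

open CategoryTheory CategoryTheory.Limits Opposite
open Groth.Agent.Etbase.FreeSheaf

set_option backward.isDefEq.respectTransparency false

namespace K643.MVSet

variable {C : Type (u + 1)} [Category.{u} C] (J : GrothendieckTopology C)

variable {A U V W : Cᵒᵖ ⥤ Type (u + 1)} (au : A ⟶ U) (av : A ⟶ V) (uw : U ⟶ W) (vw : V ⟶ W)

/-- Mayer-Vietoris squares of presheaves of sets. -/
structure IsMV : Prop where
  comm : ∀ (E : C) (a : A.obj (op E)), uw.app _ (au.app _ a) = vw.app _ (av.app _ a)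
  inj_a : ∀ (E : C) (x y : A.obj (op E)), av.app _ x = av.app _ y → x = y
  inj_u : ∀ (E : C) (x y : U.obj (op E)), uw.app _ x = uw.app _ y → x = y
  pb : ∀ (E : C) (x : U.obj (op E)) (y : V.obj (op E)), uw.app _ x = vw.app _ y →
    ∃ a : A.obj (op E), au.app _ a = x ∧ av.app _ a = y
  cov : ∀ (E : C) (z : W.obj (op E)), ∃ T ∈ J E, ∀ ⦃E' : C⦄ (e : E' ⟶ E), T e →
    (∃ x : U.obj (op E'), uw.app _ x = W.map e.op z) ∨ (∃ y : V.obj (op E'), vw.app _ y = W.map e.op z)
  uniq : ∀ (E : C) (y y' : V.obj (op E)), vw.app _ y = vw.app _ y' → ∃ T ∈ J E, ∀ ⦃E' : C⦄ (e : E' ⟶ E), T e →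
    V.map e.op y = V.map e.op y' ∨ ∃ x : U.obj (op E'), uw.app _ x = vw.app _ (V.map e.op y)

variable [HasSheafify J AddCommGrpCat.{u + 1}]
variable {J} {F : Sheaf J AddCommGrpCat.{u + 1}}

/-- the value of a morphism out of the free sheaf -/
noncomputable def val {P : Cᵒᵖ ⥤ Type (u + 1)} (s : Z J P ⟶ F) {E : C} (x : P.obj (op E)) : F.obj.obj (op E) :=
  s.hom.app _ (gen x)

theorem val_map {P : Cᵒᵖ ⥤ Type (u + 1)} (s : Z J P ⟶ F) {E E' : C} (e : E' ⟶ E) (x : P.obj (op E)) :
    val s (P.map e.op x) = F.obj.map e.op (val s x) := by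
  rw [val, val, ← app_map s.hom, map_gen]

theorem val_Zmap {P Q : Cᵒᵖ ⥤ Type (u + 1)} (f : P ⟶ Q) (s : Z J Q ⟶ F) {E : C} (x : P.obj (op E)) :
    val (Zmap f ≫ s) x = val s (f.app _ x) :=
  congrArg (fun y => s.hom.app (op E) y) (Zmap_gen f x)

theorem hom_ext_val {P : Cᵒᵖ ⥤ Type (u + 1)} {s t : Z J P ⟶ F}
    (h : ∀ (E : C) (x : P.obj (op E)), val s x = val t x) : s = t :=
  hom_ext fun E x => h E.unop x

omit [HasSheafify J AddCommGrpCat.{u + 1}] in
theorem isSheafFor (F : Sheaf J AddCommGrpCat.{u + 1}) {E : C} (T : Sieve E) (hT : T ∈ J E) :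
    Presieve.IsSheafFor (F.obj ⋙ forget AddCommGrpCat.{u + 1}) T.arrows := by
  have h := (Presheaf.isSheaf_iff_isSheaf_forget (J := J) (forget AddCommGrpCat.{u + 1}) (P' := F.obj)).1 F.property
  rw [isSheaf_iff_isSheaf_of_type] at h
  exact h T hT

omit [HasSheafify J AddCommGrpCat.{u + 1}] in
theorem section_ext {E : C} (T : Sieve E) (hT : T ∈ J E) {y y' : F.obj.obj (op E)}
    (h : ∀ ⦃E' : C⦄ (e : E' ⟶ E), T e → F.obj.map e.op y = F.obj.map e.op y') : y = y' :=
  (isSheafFor F T hT).isSeparatedFor.ext fun _ e he => h e he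

omit [HasSheafify J AddCommGrpCat.{u + 1}] in
theorem map_comp_apply {E E' E'' : C} (e : E' ⟶ E) (e' : E'' ⟶ E') (y : F.obj.obj (op E)) :
    F.obj.map (e' ≫ e).op y = F.obj.map e'.op (F.obj.map e.op y) := by
  rw [op_comp, F.obj.map_comp]
  rfl

theorem pmap_comp {P : Cᵒᵖ ⥤ Type (u + 1)} {E E' E'' : C} (e : E' ⟶ E) (e' : E'' ⟶ E') (y : P.obj (op E)) :
    P.map (e' ≫ e).op y = P.map e'.op (P.map e.op y) := by
  rw [op_comp, P.map_comp]
  rfl

theorem pnat {P Q : Cᵒᵖ ⥤ Type (u + 1)} (f : P ⟶ Q) {E E' : C} (e : E' ⟶ E) (y : P.obj (op E)) :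
    f.app _ (P.map e.op y) = Q.map e.op (f.app _ y) := ConcreteCategory.congr_hom (f.naturality e.op) y

section

variable (s : Z J U ⟶ F) (t : Z J V ⟶ F)

/-- `y` restricts to the values of `s` and `t` -/
def Good {E : C} (z : W.obj (op E)) (y : F.obj.obj (op E)) : Prop :=
  ∀ ⦃E' : C⦄ (e : E' ⟶ E),
    (∀ x : U.obj (op E'), uw.app _ x = W.map e.op z → F.obj.map e.op y = val s x) ∧
    (∀ v : V.obj (op E'), vw.app _ v = W.map e.op z → F.obj.map e.op y = val t v)

theorem Good.map {E : C} {z : W.obj (op E)} {y : F.obj.obj (op E)} (h : Good uw vw s t z y) {E' : C} (e : E' ⟶ E) :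
    Good uw vw s t (W.map e.op z) (F.obj.map e.op y) := by
  intro E'' e'
  rw [← map_comp_apply, ← pmap_comp]
  exact h (e' ≫ e)

end

variable (h : IsMV J au av uw vw) {s : Z J U ⟶ F} {t : Z J V ⟶ F}
include h

theorem Good.unique {E : C} {z : W.obj (op E)} {y y' : F.obj.obj (op E)} (hy : Good uw vw s t z y)
    (hy' : Good uw vw s t z y') : y = y' := by
  obtain ⟨T, hT, hc⟩ := h.cov E z
  refine section_ext T hT fun E' e he => ?_
  rcases hc e he with ⟨x, hx⟩ | ⟨v, hv⟩
  · rw [(hy e).1 x hx, (hy' e).1 x hx]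
  · rw [(hy e).2 v hv, (hy' e).2 v hv]

variable (w : Zmap au ≫ s = Zmap av ≫ t)
include w

theorem val_eq {E : C} (x : U.obj (op E)) (v : V.obj (op E)) (hx : uw.app _ x = vw.app _ v) : val s x = val t v := by
  obtain ⟨a, rfl, rfl⟩ := h.pb E x v hx
  rw [← val_Zmap, ← val_Zmap, w]

theorem good_u {E : C} (x : U.obj (op E)) : Good uw vw s t (uw.app _ x) (val s x) := by
  intro E' e
  rw [← val_map]
  refine ⟨fun x' hx' => ?_, fun v hv => ?_⟩
  · rw [← pnat] at hx'
    rw [h.inj_u _ _ _ hx']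
  · rw [← pnat] at hv
    exact val_eq au av uw vw h w _ _ hv.symm

theorem good_v {E : C} (v : V.obj (op E)) : Good uw vw s t (vw.app _ v) (val t v) := by
  intro E' e
  rw [← val_map]
  refine ⟨fun x hx => ?_, fun v' hv' => ?_⟩
  · rw [← pnat] at hx
    exact (val_eq au av uw vw h w _ _ hx).symm
  · rw [← pnat] at hv'
    obtain ⟨T, hT, hc⟩ := h.uniq _ _ _ hv'
    refine section_ext T hT fun E'' e' he' => ?_
    rw [← val_map, ← val_map]
    rcases hc e' he' with h1 | ⟨x, hx⟩
    · rw [h1]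
    · have h2 : vw.app _ (V.map e'.op v') = vw.app _ (V.map e'.op (V.map e.op v)) := by
        rw [pnat, pnat, hv']
      rw [← val_eq au av uw vw h w x _ hx, ← val_eq au av uw vw h w x _ (hx.trans h2)]

theorem exists_good {E : C} (z : W.obj (op E)) : ∃ y, Good uw vw s t z y := by
  obtain ⟨T, hT, hc⟩ := h.cov E z
  have key : ∀ ⦃E' : C⦄ (e : E' ⟶ E), T e → ∃ y, Good uw vw s t (W.map e.op z) y := by
    intro E' e he
    rcases hc e he with ⟨x, hx⟩ | ⟨v, hv⟩
    · exact ⟨val s x, hx ▸ good_u au av uw vw h w x⟩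
    · exact ⟨val t v, hv ▸ good_v au av uw vw h w v⟩
  choose y hy using key
  have hsh := isSheafFor F T hT (fun E' e he => y e he) (by
    intro E₁ E₂ Z g₁ g₂ f₁ f₂ h₁ h₂ fac
    have e1 := (hy f₁ h₁).map (s := s) (t := t) uw vw g₁
    have e2 := (hy f₂ h₂).map (s := s) (t := t) uw vw g₂
    rw [← pmap_comp] at e1 e2
    rw [fac] at e1
    exact Good.unique au av uw vw h e1 e2)
  obtain ⟨y₀, hy₀, -⟩ := hsh
  have hy₀' : ∀ ⦃E' : C⦄ (e : E' ⟶ E) (he : T e), F.obj.map e.op y₀ = y e he := fun E' e he => hy₀ e he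
  refine ⟨y₀, fun E' e => ⟨fun x hx => ?_, fun v hv => ?_⟩⟩
  · refine section_ext (T.pullback e) (J.pullback_stable e hT) fun E'' e' he' => ?_
    rw [← map_comp_apply, hy₀' _ he', ← val_map]
    have h1 := (hy (e' ≫ e) he' (𝟙 _)).1 (U.map e'.op x) (by
      rw [pnat, hx, ← pmap_comp, ← pmap_comp, Category.id_comp])
    rw [op_id, F.obj.map_id] at h1
    exact h1
  · refine section_ext (T.pullback e) (J.pullback_stable e hT) fun E'' e' he' => ?_
    rw [← map_comp_apply, hy₀' _ he', ← val_map]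
    have h1 := (hy (e' ≫ e) he' (𝟙 _)).2 (V.map e'.op v) (by
      rw [pnat, hv, ← pmap_comp, ← pmap_comp, Category.id_comp])
    rw [op_id, F.obj.map_id] at h1
    exact h1

/-- gluing -/
theorem exists_desc : ∃ r : Z J W ⟶ F, Zmap uw ≫ r = s ∧ Zmap vw ≫ r = t := by
  choose y hy using fun (E : C) (z : W.obj (op E)) => exists_good au av uw vw h w z
  let r : Z J W ⟶ F := lift (fun E z => y E.unop z) (fun E E' g p =>
    Good.unique au av uw vw h ((hy E.unop p).map uw vw s t g.unop) (hy E'.unop (W.map g p)))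
  have hr : ∀ (E : C) (z : W.obj (op E)), val r z = y E z := fun E z => lift_gen _ _ _
  refine ⟨r, hom_ext_val fun E x => ?_, hom_ext_val fun E v => ?_⟩
  · rw [val_Zmap, hr]
    exact Good.unique au av uw vw h (hy E _) (good_u au av uw vw h w x)
  · rw [val_Zmap, hr]
    exact Good.unique au av uw vw h (hy E _) (good_v au av uw vw h w v)

omit w

omit [HasSheafify J AddCommGrpCat.{u + 1}] h in
theorem good_of_val [HasSheafify J AddCommGrpCat.{u + 1}] (r : Z J W ⟶ F) {E : C} (z : W.obj (op E)) :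
    Good uw vw (Zmap uw ≫ r) (Zmap vw ≫ r) z (val r z) := by
  intro E' e
  rw [← val_map]
  refine ⟨fun x hx => ?_, fun v hv => ?_⟩
  · rw [val_Zmap, hx]
  · rw [val_Zmap, hv]

theorem desc_unique {r r' : Z J W ⟶ F} (h1 : Zmap uw ≫ r = Zmap uw ≫ r') (h2 : Zmap vw ≫ r = Zmap vw ≫ r') :
    r = r' := by
  refine hom_ext_val fun E z => ?_
  have e1 := good_of_val uw vw r z
  rw [h1, h2] at e1
  exact Good.unique au av uw vw h e1 (good_of_val uw vw r' z)

omit F

theorem isPushout : IsPushout (Zmap (J := J) au) (Zmap av) (Zmap uw) (Zmap vw) := by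
  have hw : Zmap (J := J) au ≫ Zmap uw = Zmap av ≫ Zmap vw := by
    rw [← Functor.map_comp, ← Functor.map_comp, ← Functor.whiskerRight_comp, ← Functor.whiskerRight_comp]
    congr 2
    ext E a
    exact h.comm _ a
  refine ⟨⟨hw⟩, ⟨PushoutCocone.IsColimit.mk hw (fun c => (exists_desc au av uw vw h c.condition).choose)
    (fun c => (exists_desc au av uw vw h c.condition).choose_spec.1)
    (fun c => (exists_desc au av uw vw h c.condition).choose_spec.2) (fun c m h1 h2 => ?_)⟩⟩
  refine desc_unique au av uw vw h ?_ ?_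
  · rw [h1, (exists_desc au av uw vw h c.condition).choose_spec.1]
  · rw [h2, (exists_desc au av uw vw h c.condition).choose_spec.2]

omit h in
theorem mono_Zmap {P Q : Cᵒᵖ ⥤ Type (u + 1)} (f : P ⟶ Q) [Mono f] : Mono (Zmap (J := J) f) := by
  have : Mono (Functor.whiskerRight f AddCommGrpCat.free.{u + 1}) := by
    have : ∀ W, Mono ((Functor.whiskerRight f AddCommGrpCat.free.{u + 1}).app W) := by
      intro W
      rw [Functor.whiskerRight_app]
      infer_instance
    exact NatTrans.mono_of_mono_app _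
  exact inferInstanceAs (Mono ((presheafToSheaf J AddCommGrpCat.{u + 1}).map
    (Functor.whiskerRight f AddCommGrpCat.free.{u + 1})))

theorem mono_av : Mono (Zmap (J := J) av) := by
  have : Mono av := by
    have h1 : ∀ E, Mono (av.app E) := fun E => by
      rw [mono_iff_injective]
      exact fun x y hxy => h.inj_a E.unop x y hxy
    exact NatTrans.mono_of_mono_app _
  exact mono_Zmap _

/-- the Mayer-Vietoris sequence -/
theorem shortExact : ∃ w : biprod.lift (Zmap (J := J) au) (-Zmap av) ≫ biprod.desc (Zmap uw) (Zmap vw) = 0,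
    (ShortComplex.mk (biprod.lift (Zmap (J := J) au) (-Zmap av)) (biprod.desc (Zmap uw) (Zmap vw)) w).ShortExact := by
  have hp := isPushout (J := J) au av uw vw h
  have w : biprod.lift (Zmap (J := J) au) (-Zmap av) ≫ biprod.desc (Zmap uw) (Zmap vw) = 0 := by
    rw [biprod.lift_desc, hp.w, Preadditive.neg_comp, add_neg_cancel]
  have hm := mono_av au av uw vw (J := J) h
  refine ⟨w, ?_⟩
  have h1 := (ShortComplex.exact_and_epi_g_iff_g_is_cokernel (ShortComplex.mk _ _ w)).2 ⟨hp.isColimitCokernelCofork⟩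
  have h2 : Mono (biprod.lift (Zmap (J := J) au) (-Zmap av)) := by
    have : Mono (biprod.lift (Zmap (J := J) au) (-Zmap av) ≫ biprod.snd) := by
      rw [biprod.lift_snd]
      infer_instance
    exact mono_of_mono _ biprod.snd
  exact { exact := h1.1, epi_g := h1.2, mono_f := h2 }

end K643.MVSet
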