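import Groth.Agent.AlgSp.K643.ModHom
import Groth.Agent.Etbase.ExtColim

/-!
# Homomorphisms out of a finitely presented module commute with filtered colimits

General site version: see `preservesColimit_coyoneda`.
-/

set_option autoImplicit false
universe w v u v' w'

open CategoryTheory CategoryTheory.Limits Opposite

set_option backward.isDefEq.respectTransparency false

namespace K643.ModColim

open K643.ModHom Groth.Agent.Etbase.ExtColim

variable {C : Type u} [Category.{v} C] {J : GrothendieckTopology C} {R : Sheaf J RingCat.{w}}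
variable {I : Type w'} [Category.{v'} I]

section Stage

variable [IsFiltered I]

universe x

lemma common_stage {κ : Type x} [Finite κ] (i₀ : I) (i : κ → I) (f : ∀ k, i₀ ⟶ i k) :
    ∃ (j : I) (g : ∀ k, i k ⟶ j) (h : i₀ ⟶ j), ∀ k, f k ≫ g k = h := by
  obtain ⟨n, ⟨e⟩⟩ := Finite.exists_equiv_fin κ
  obtain ⟨j, g, h, hg⟩ := exists_common_stage i₀ (fun m => i (e.symm m)) (fun m => f (e.symm m))
  refine ⟨j, fun k => eqToHom (by rw [e.symm_apply_apply]) ≫ g (e k), h, fun k => ?_⟩
  rw [← hg (e k)]
  have : ∀ (k' : κ) (hk : k' = k), f k ≫ eqToHom (by rw [hk]) = f k' := by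
    rintro _ rfl
    simp
  rw [← Category.assoc, this _ (e.symm_apply_apply k)]

lemma common_stage' {κ : Type x} [Finite κ] (i : κ → I) :
    ∃ (j : I), ∀ k, Nonempty (i k ⟶ j) := by
  obtain ⟨n, ⟨e⟩⟩ := Finite.exists_equiv_fin κ
  obtain ⟨j, hj⟩ := exists_common_stage' (fun m => i (e.symm m))
  refine ⟨j, fun k => ?_⟩
  have := hj (e k)
  simp only [e.symm_apply_apply] at this
  exact this

end Stage

section Def

variable {F : I ⥤ SheafOfModules.{w} R} (c : Cocone F)

/-- sections of the colimit come from a stage -/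
def SecSurj (E : C) : Prop :=
  ∀ s : c.pt.val.presheaf.obj (op E), ∃ (i : I) (t : (F.obj i).val.presheaf.obj (op E)),
    (c.ι.app i).val.app (op E) t = s

/-- sections at a stage vanishing in the colimit vanish at a later stage -/
def SecInj (E : C) : Prop :=
  ∀ (i : I) (t : (F.obj i).val.presheaf.obj (op E)), (c.ι.app i).val.app (op E) t = 0 →
    ∃ (j : I) (g : i ⟶ j), (F.map g).val.app (op E) t = 0

end Def

section Local

section

variable {G M : SheafOfModules.{w} R} {E : C}

variable {F : I ⥤ SheafOfModules.{w} R} (c : Cocone F)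

lemma app_stage {i j : I} (g : i ⟶ j) (t : (F.obj i).val.presheaf.obj (op E)) :
    (c.ι.app j).val.app (op E) ((F.map g).val.app (op E) t) = (c.ι.app i).val.app (op E) t :=
  congrArg (fun a : F.obj i ⟶ c.pt => a.val.app (op E) t) (c.w g)

lemma app_app {i j k : I} (g : i ⟶ j) (h : j ⟶ k) (t : (F.obj i).val.presheaf.obj (op E)) :
    (F.map h).val.app (op E) ((F.map g).val.app (op E) t) = (F.map (g ≫ h)).val.app (op E) t :=
  congrArg (fun a : F.obj i ⟶ F.obj k => a.val.app (op E) t) (F.map_comp g h).symm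

lemma over_w {i j : I} (g : i ⟶ j) (E : C) :
    (F.map g).over E ≫ (c.ι.app j).over E = (c.ι.app i).over E := by
  rw [← Functor.map_comp, c.w g]

lemma over_comp {i j k : I} (g : i ⟶ j) (h : j ⟶ k) (E : C) :
    (F.map g).over E ≫ (F.map h).over E = (F.map (g ≫ h)).over E := by
  rw [← Functor.map_comp, F.map_comp g h]

/-- finitely many sections at a stage dying in the colimit die at a common later stage -/
lemma common_zero [IsFiltered I] {κ : Type*} [Finite κ] (hi : SecInj c E) (i : I)
    (t : κ → (F.obj i).val.presheaf.obj (op E)) (ht : ∀ k, (c.ι.app i).val.app (op E) (t k) = 0) :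
    ∃ (j : I) (g : i ⟶ j), ∀ k, (F.map g).val.app (op E) (t k) = 0 := by
  choose j g hg using fun k => hi i (t k) (ht k)
  obtain ⟨l, g', h, hh⟩ := common_stage i j g
  refine ⟨l, h, fun k => ?_⟩
  rw [← hh k, ← app_app, hg k]
  exact map_zero ((F.map (g' k)).val.app (op E)).hom

end

variable [∀ X, HasSheafify (J.over X) AddCommGrpCat.{w}]
  [∀ X, (J.over X).WEqualsLocallyBijective AddCommGrpCat.{w}]

variable {G M : SheafOfModules.{w} R} {E : C}

/-- local homomorphisms agree if they agree on generators -/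
lemma ext_gen (σ : (G.over E).GeneratingSections) {a b : G.over E ⟶ M.over E}
    (h : ∀ j, appTop a (secTop G E (σ.s j)) = appTop b (secTop G E (σ.s j))) : a = b := by
  rw [← cancel_epi σ.π]
  apply (M.over E).freeHomEquiv.injective
  funext j
  rw [SheafOfModules.freeHomEquiv_comp_apply, SheafOfModules.freeHomEquiv_comp_apply]
  apply (secTop M E).injective
  rw [secTop_map, secTop_map, Equiv.apply_symm_apply]
  exact h j

variable [IsFiltered I] {F : I ⥤ SheafOfModules.{w} R} (c : Cocone F)

/-- two maps at a stage which agree in the colimit agree at a later stage -/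
theorem loc_inj (σ : (G.over E).GeneratingSections) [Finite σ.I] (hi : SecInj c E) (i : I)
    (a b : G.over E ⟶ (F.obj i).over E)
    (h : a ≫ (c.ι.app i).over E = b ≫ (c.ι.app i).over E) :
    ∃ (j : I) (g : i ⟶ j), a ≫ (F.map g).over E = b ≫ (F.map g).over E := by
  obtain ⟨j, g, hg⟩ := common_zero c hi i
    (fun k : σ.I => appTop a (secTop G E (σ.s k)) - appTop b (secTop G E (σ.s k))) (fun k => by
      have h2 := congrArg (fun x => appTop x (secTop G E (σ.s k))) h
      simp only [appTop_comp, appTop_over] at h2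
      refine (map_sub ((c.ι.app i).val.app (op E)).hom _ _).trans ?_
      exact sub_eq_zero.2 h2)
  refine ⟨j, g, ext_gen σ fun k => ?_⟩
  rw [appTop_comp, appTop_comp, appTop_over, appTop_over]
  have h3 := (map_sub ((F.map g).val.app (op E)).hom (appTop a (secTop G E (σ.s k)))
    (appTop b (secTop G E (σ.s k)))).symm.trans (hg k)
  exact sub_eq_zero.1 h3

/-- two maps from a finite free module at a stage which agree in the colimit agree later -/
theorem free_inj {κ : Type w} [Finite κ] (hi : SecInj c E) (i : I)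
    (a : SheafOfModules.free (R := R.over E) κ ⟶ (F.obj i).over E)
    (h : a ≫ (c.ι.app i).over E = 0) :
    ∃ (j : I) (g : i ⟶ j), a ≫ (F.map g).over E = 0 := by
  let s := fun k => secTop (F.obj i) E ((F.obj i).over E |>.freeHomEquiv a k)
  have h0 : ∀ {M : SheafOfModules.{w} R} (k : κ), secTop M E ((M.over E).freeHomEquiv
      (0 : SheafOfModules.free (R := R.over E) κ ⟶ M.over E) k) = 0 := fun {M} k => rfl
  obtain ⟨j, g, hg⟩ := common_zero c hi i s (fun k => by
    have h2 := congrArg (fun x => secTop c.pt E ((c.pt.over E).freeHomEquiv x k)) h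
    simp only [SheafOfModules.freeHomEquiv_comp_apply, secTop_map, appTop_over] at h2
    exact h2.trans (h0 k))
  refine ⟨j, g, ?_⟩
  apply ((F.obj j).over E).freeHomEquiv.injective
  funext k
  apply (secTop (F.obj j) E).injective
  rw [SheafOfModules.freeHomEquiv_comp_apply, secTop_map, appTop_over]
  exact (hg k).trans (h0 k).symm

/-- a map to the colimit from a module with finite presentation comes from a stage -/
theorem loc_surj (P : (G.over E).Presentation) [Finite P.generators.I] [Finite P.relations.I]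
    (hs : SecSurj c E) (hi : SecInj c E) (φ : G.over E ⟶ c.pt.over E) :
    ∃ (i : I) (ψ : G.over E ⟶ (F.obj i).over E), ψ ≫ (c.ι.app i).over E = φ := by
  -- lift the generators
  choose i t ht using fun k : P.generators.I => hs (secTop c.pt E ((c.pt.over E).freeHomEquiv
    (P.generators.π ≫ φ) k))
  obtain ⟨j, hj⟩ := common_stage' i
  let f : SheafOfModules.free (R := R.over E) P.generators.I ⟶ (F.obj j).over E :=
    ((F.obj j).over E).freeHomEquiv.symm (fun k => (secTop (F.obj j) E).symm
      ((F.map (hj k).some).val.app (op E) (t k)))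
  have hf : f ≫ (c.ι.app j).over E = P.generators.π ≫ φ := by
    apply (c.pt.over E).freeHomEquiv.injective
    funext k
    apply (secTop c.pt E).injective
    rw [SheafOfModules.freeHomEquiv_comp_apply, secTop_map, appTop_over, Equiv.apply_symm_apply,
      Equiv.apply_symm_apply]
    exact (app_stage c (hj k).some (t k)).trans (ht k)
  -- kill the relations
  obtain ⟨l, g, hg⟩ := free_inj c hi j (P.relations.π ≫ kernel.ι P.generators.π ≫ f) (by
    rw [Category.assoc, Category.assoc, hf, kernel.condition_assoc, zero_comp, comp_zero])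
  have hg' : kernel.ι P.generators.π ≫ f ≫ (F.map g).over E = 0 := by
    rw [← cancel_epi P.relations.π, comp_zero, ← hg]
    simp only [Category.assoc]
  have hex : (ShortComplex.mk (kernel.ι P.generators.π) P.generators.π (kernel.condition _)).Exact :=
    ShortComplex.exact_of_f_is_kernel _ (kernelIsKernel _)
  refine ⟨l, hex.desc (f ≫ (F.map g).over E) hg', ?_⟩
  rw [← cancel_epi P.generators.π]
  have h4 : P.generators.π ≫ hex.desc (f ≫ (F.map g).over E) hg' = f ≫ (F.map g).over E :=
    hex.g_desc _ _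
  rw [← Category.assoc, h4, Category.assoc, over_w, hf]

end Local

section Restrict

variable [HasPullbacks C] [∀ X, HasSheafify (J.over X) AddCommGrpCat.{w}]
  [∀ X, (J.over X).WEqualsLocallyBijective AddCommGrpCat.{w}]
variable {G : SheafOfModules.{w} R} {E W : C}

/-- restriction of a presentation -/
noncomputable def presRestr (P : (G.over E).Presentation) (g : W ⟶ E) : (G.over W).Presentation :=
  (P.map (SheafOfModules.overMap R g) (SheafOfModules.overMapUnitIso g).symm).ofIsIso
    ((SheafOfModules.overFunctorMap R g).hom.app G)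

/-- restriction of generators -/
noncomputable def genRestr (P : (G.over E).GeneratingSections) (g : W ⟶ E) :
    (G.over W).GeneratingSections :=
  (P.map (SheafOfModules.overMap R g) (SheafOfModules.overMapUnitIso g).symm).ofEpi
    ((SheafOfModules.overFunctorMap R g).hom.app G)

lemma finite_presRestr_gen (P : (G.over E).Presentation) [h : Finite P.generators.I] (g : W ⟶ E) :
    Finite (presRestr P g).generators.I := h

lemma finite_presRestr_rel (P : (G.over E).Presentation) [h : Finite P.relations.I] (g : W ⟶ E) :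
    Finite (presRestr P g).relations.I := h

lemma finite_genRestr (P : (G.over E).GeneratingSections) [h : Finite P.I] (g : W ⟶ E) :
    Finite (genRestr P g).I := h

/-- restriction of a finite presentation -/
lemma exists_pres_restr (P : (G.over E).Presentation) (h : Finite P.generators.I)
    (h' : Finite P.relations.I) (g : W ⟶ E) :
    ∃ P' : (G.over W).Presentation, Finite P'.generators.I ∧ Finite P'.relations.I :=
  ⟨presRestr P g, h, h'⟩

end Restrict

section Global

variable [HasPullbacks C] [HasBinaryProducts C] [∀ X, HasSheafify (J.over X) AddCommGrpCat.{w}]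
  [∀ X, (J.over X).WEqualsLocallyBijective AddCommGrpCat.{w}]
  [J.HasSheafCompose (CategoryTheory.forget AddCommGrpCat.{w})]
variable {G : SheafOfModules.{w} R} {κ : Type} [Finite κ] {Y : κ → C}
variable [IsFiltered I] {F : I ⥤ SheafOfModules.{w} R} (c : Cocone F)

lemma restr_comp_over {M N : SheafOfModules.{w} R} {E W : C} (a : G.over E ⟶ M.over E) (φ : M ⟶ N)
    (g : W ⟶ E) : restr a g ≫ φ.over W = restr (a ≫ φ.over E) g := by
  refine over_hom_ext fun {Z} f x => ?_
  refine Eq.trans ?_ (restr_app _ g f x).symm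
  exact congrArg (φ.val.app (op Z)).hom (restr_app a g f x)

lemma restr_over {M : SheafOfModules.{w} R} {E W : C} (φ : G ⟶ M) (g : W ⟶ E) :
    restr (φ.over E) g = φ.over W := by
  refine over_hom_ext fun {Z} f x => ?_
  exact restr_app _ g f x

theorem global_inj (hY : J.CoversTop Y) (σ : ∀ k, (G.over (Y k)).GeneratingSections)
    (hσ : ∀ k, Finite (σ k).I) (hi : ∀ k, SecInj c (Y k)) (i : I) (a b : G ⟶ F.obj i)
    (h : a ≫ c.ι.app i = b ≫ c.ι.app i) : ∃ (j : I) (g : i ⟶ j), a ≫ F.map g = b ≫ F.map g := by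
  have h1 : ∀ k, ∃ (j : I) (g : i ⟶ j),
      a.over (Y k) ≫ (F.map g).over (Y k) = b.over (Y k) ≫ (F.map g).over (Y k) := by
    intro k
    have := hσ k
    refine loc_inj c (σ k) (hi k) i _ _ ?_
    rw [← Functor.map_comp, ← Functor.map_comp, h]
  choose j g hg using h1
  obtain ⟨l, g', e, he⟩ := common_stage i j g
  refine ⟨l, e, hom_ext_over hY _ _ fun k => ?_⟩
  rw [SheafOfModules.Hom.over, SheafOfModules.Hom.over, Functor.map_comp, Functor.map_comp, ← he k]
  have h2 := congrArg (fun x => x ≫ (F.map (g' k)).over (Y k)) (hg k)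
  simp only [Category.assoc, over_comp] at h2
  exact h2

theorem global_surj (hY : J.CoversTop Y) (P : ∀ k, (G.over (Y k)).Presentation)
    (hP : ∀ k, Finite (P k).generators.I) (hP' : ∀ k, Finite (P k).relations.I)
    (hs : ∀ k, SecSurj c (Y k)) (hi : ∀ k, SecInj c (Y k)) (hi' : ∀ k l, SecInj c (Y k ⨯ Y l))
    (φ : G ⟶ c.pt) : ∃ (i : I) (ψ : G ⟶ F.obj i), ψ ≫ c.ι.app i = φ := by
  choose i ψ hψ using fun k => by
    have := hP k
    have := hP' k
    exact loc_surj c (P k) (hs k) (hi k) (φ.over (Y k))
  obtain ⟨j, hj⟩ := common_stage' i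
  let ψ' : ∀ k, G.over (Y k) ⟶ (F.obj j).over (Y k) := fun k =>
    ψ k ≫ (F.map (hj k).some).over (Y k)
  have hψ' : ∀ k, ψ' k ≫ (c.ι.app j).over (Y k) = φ.over (Y k) := fun k => by
    rw [Category.assoc, over_w, hψ]
  have h1 : ∀ p : κ × κ, ∃ (l : I) (g : j ⟶ l),
      restr (ψ' p.1) (prod.fst : Y p.1 ⨯ Y p.2 ⟶ Y p.1) ≫ (F.map g).over _ =
        restr (ψ' p.2) (prod.snd : Y p.1 ⨯ Y p.2 ⟶ Y p.2) ≫ (F.map g).over _ := by
    intro p
    have := hP p.1
    have := finite_genRestr (P p.1).generators (prod.fst : Y p.1 ⨯ Y p.2 ⟶ Y p.1)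
    refine loc_inj c (genRestr (P p.1).generators (prod.fst : Y p.1 ⨯ Y p.2 ⟶ Y p.1)) (hi' p.1 p.2)
      j _ _ ?_
    rw [restr_comp_over, restr_comp_over, hψ', hψ', restr_over, restr_over]
  choose l g hg using h1
  obtain ⟨r, g', e, he⟩ := common_stage j l g
  have h2 : ∀ k k', restr (ψ' k ≫ (F.map e).over _) (prod.fst : Y k ⨯ Y k' ⟶ Y k) =
      restr (ψ' k' ≫ (F.map e).over _) (prod.snd : Y k ⨯ Y k' ⟶ Y k') := by
    intro k k'
    refine (restr_comp_over (ψ' k) (F.map e) prod.fst).symm.trans
      (Eq.trans ?_ (restr_comp_over (ψ' k') (F.map e) prod.snd))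
    have h7 := congrArg (fun x => x ≫ (F.map (g' (k, k'))).over _) (hg (k, k'))
    simp only [Category.assoc, over_comp] at h7
    rw [← he (k, k')]
    exact h7
  obtain ⟨Φ, hΦ⟩ := glue hY (fun k => ψ' k ≫ (F.map e).over (Y k)) (fun Z k k' f f' x => by
    have h3 := congrArg (fun a : G.over (Y k ⨯ Y k') ⟶ (F.obj r).over (Y k ⨯ Y k') =>
      a.val.app (op (Over.mk (prod.lift f f'))) x) (h2 k k')
    have e1 : prod.lift f f' ≫ (prod.fst : Y k ⨯ Y k' ⟶ Y k) = f := prod.lift_fst _ _
    have e2 : prod.lift f f' ≫ (prod.snd : Y k ⨯ Y k' ⟶ Y k') = f' := prod.lift_snd _ _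
    have h4 := (restr_app (ψ' k ≫ (F.map e).over (Y k)) prod.fst (prod.lift f f') x).symm.trans
      (h3.trans (restr_app (ψ' k' ≫ (F.map e).over (Y k')) prod.snd (prod.lift f f') x))
    rw [e1, e2] at h4
    exact h4)
  refine ⟨r, Φ, hom_ext_over hY _ _ fun k => ?_⟩
  rw [SheafOfModules.Hom.over, Functor.map_comp]
  have h5 : (SheafOfModules.overFunctor R (Y k)).map Φ = _ := hΦ k
  rw [h5, Category.assoc]
  have h6 := over_w c e (Y k)
  exact (congrArg (fun x => ψ' k ≫ x) h6).trans (hψ' k)

/-- `Hom(G, -)` commutes with the colimit `c`. -/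
theorem isColimit_coyoneda (hY : J.CoversTop Y) (P : ∀ k, (G.over (Y k)).Presentation)
    (hP : ∀ k, Finite (P k).generators.I) (hP' : ∀ k, Finite (P k).relations.I)
    (hs : ∀ k, SecSurj c (Y k)) (hi : ∀ k, SecInj c (Y k)) (hi' : ∀ k l, SecInj c (Y k ⨯ Y l)) :
    Nonempty (IsColimit ((coyoneda.obj (op G)).mapCocone c)) := by
  refine ⟨Types.FilteredColimit.isColimitOf' _ _ (fun φ => ?_) (fun i a b h => ?_)⟩
  · obtain ⟨i, ψ, hψ⟩ := global_surj c hY P hP hP' hs hi hi' φ
    exact ⟨i, ψ, hψ.symm⟩
  · exact global_inj c hY (fun k => (P k).generators) hP hi i a b h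

end Global

end K643.ModColim
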