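import Groth.Agent.AlgSp.K643.CechX

/-!
# Cohomology of abelian sheaves over the objects of the small etale site

* `ZE E`, `HE E F n = Ext^n(Z[E], F)` = cohomology of `F` over the object `E`;
* `secEquiv : (ZE E ⟶ F) ≃+ F(E)`;
* `surj_sections`: `I(E) → G(E)` is onto if `H^1(E, F) = 0`;
* `Acyc B F`: vanishing of `H^{n+1}(E, F)` for `E` in the class `B`; dimension shifting.
-/

set_option autoImplicit false
universe u

open CategoryTheory CategoryTheory.Limits AlgebraicGeometry Opposite AlgSp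
open CategoryTheory.Abelian (Ext)
open CategoryTheory.Abelian.Ext
open Groth.Agent.Etbase.FreeSheaf Groth.Agent.Etbase.CechFamily

set_option backward.isDefEq.respectTransparency false

namespace K643.ObjCoh

open K643.Site K643.CechX

attribute [local instance 3000] hasSheafify_et wEqualsLocallyBijective_et hasSheafCompose_et hasExt_et

variable {S : Scheme.{u}} {X : Sp S}

/-- the free abelian sheaf on an object of the small etale site -/
noncomputable abbrev ZE (E : EtOver X) : AbEt X := Z (etTop X) (uliftYoneda.{u + 1}.obj E)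

/-- cohomology of an abelian sheaf over an object of the small etale site -/
abbrev HE (E : EtOver X) (F : AbEt X) (n : ℕ) : Type (u + 1) := Ext.{u + 1} (ZE E) F n

/-- maps out of `Z[E]` are sections over `E` -/
noncomputable def secEquiv (E : EtOver X) (F : AbEt X) : (ZE E ⟶ F) ≃+ F.obj.obj (op E) :=
  ev (repYo.{u + 1} E) F

theorem secEquiv_comp {E : EtOver X} {F G : AbEt X} (a : ZE E ⟶ F) (g : F ⟶ G) :
    secEquiv E G (a ≫ g) = g.hom.app (op E) (secEquiv E F a) := ev_comp _ _ _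

/-- functoriality of `Z[E]` -/
noncomputable abbrev ZEmap {E E' : EtOver X} (g : E ⟶ E') : ZE E ⟶ ZE E' :=
  Zmap (J := etTop X) (uliftYoneda.{u + 1}.map g)

theorem secEquiv_ZEmap {E E' : EtOver X} (g : E ⟶ E') {F : AbEt X} (a : ZE E' ⟶ F) :
    secEquiv E F (ZEmap g ≫ a) = F.obj.map g.op (secEquiv E' F a) := by
  refine (ev_Zmap (repYo.{u + 1} E) (repYo.{u + 1} E') (uliftYoneda.{u + 1}.map g) a).trans ?_
  have h : (repYo.{u + 1} E').homEquiv.symm ((uliftYoneda.{u + 1}.map g).app (op E)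
      ((repYo.{u + 1} E).homEquiv (𝟙 E))) = g := Category.id_comp g
  rw [h]
  rfl

section

variable {T : ShortComplex (AbEt X)} (hT : T.ShortExact)
include hT

theorem surj_sections (E : EtOver X) (h : ∀ x : HE E T.X₁ 1, x = 0) :
    Function.Surjective (T.g.hom.app (op E)) := by
  intro s
  obtain ⟨x, hx⟩ := covariant_sequence_exact₃ (ZE E) hT (mk₀ ((secEquiv E T.X₃).symm s))
    (zero_add 1) (h _)
  obtain ⟨a, rfl⟩ := (mk₀_bijective _ _).2 x
  refine ⟨secEquiv E T.X₂ a, ?_⟩
  rw [mk₀_comp_mk₀] at hx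
  have h2 := (mk₀_bijective _ _).1 hx
  rw [← secEquiv_comp, h2, AddEquiv.apply_symm_apply]

/-- conversely: if `I(E) → G(E)` is onto with `I` injective then `H^1(E, F) = 0` -/
theorem eq_zero_of_surj (E : EtOver X) [Injective T.X₂]
    (h : Function.Surjective (T.g.hom.app (op E))) (x : HE E T.X₁ 1) : x = 0 := by
  obtain ⟨y, hy⟩ := covariant_sequence_exact₁ (ZE E) hT x (Ext.eq_zero_of_injective _) (zero_add 1)
  obtain ⟨a, rfl⟩ := (mk₀_bijective _ _).2 y
  obtain ⟨t, ht⟩ := h (secEquiv E T.X₃ a)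
  have h1 : (secEquiv E T.X₂).symm t ≫ T.g = a := by
    apply (secEquiv E T.X₃).injective
    rw [secEquiv_comp, AddEquiv.apply_symm_apply, ht]
  rw [← hy, ← h1, ← mk₀_comp_mk₀, Ext.comp_assoc_of_second_deg_zero, hT.comp_extClass,
    Ext.comp_zero]

end

/-- vanishing of the higher cohomology over the objects of a class `B` -/
def Acyc (B : EtOver X → Prop) (F : AbEt X) : Prop :=
  ∀ E, B E → ∀ (n : ℕ) (x : HE E F (n + 1)), x = 0

theorem Acyc.of_injective (B : EtOver X → Prop) (F : AbEt X) [Injective F] : Acyc B F :=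
  fun _ _ _ x => Ext.eq_zero_of_injective x

theorem Acyc.X₃ {B : EtOver X → Prop} {T : ShortComplex (AbEt X)} (hT : T.ShortExact)
    (h₂ : Acyc B T.X₂) (h : Acyc B T.X₁) : Acyc B T.X₃ := by
  intro E hE n x
  obtain ⟨y, hy⟩ := covariant_sequence_exact₃ (ZE E) hT x rfl (h E hE (n + 1) _)
  rw [← hy, h₂ E hE n y, Ext.zero_comp]

theorem Acyc.X₂ {B : EtOver X → Prop} {T : ShortComplex (AbEt X)} (hT : T.ShortExact)
    (h₁ : Acyc B T.X₁) (h₃ : Acyc B T.X₃) : Acyc B T.X₂ := by
  intro E hE n x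
  obtain ⟨y, hy⟩ := covariant_sequence_exact₂ (ZE E) hT x (h₃ E hE n _)
  rw [← hy, h₁ E hE n y, Ext.zero_comp]

theorem Acyc.X₁ {B : EtOver X → Prop} {T : ShortComplex (AbEt X)} (hT : T.ShortExact)
    (h₂ : Acyc B T.X₂) (h₃ : Acyc B T.X₃)
    (hs : ∀ E, B E → Function.Surjective (T.g.hom.app (op E))) : Acyc B T.X₁ := by
  intro E hE n x
  obtain ⟨y, hy⟩ := covariant_sequence_exact₁ (ZE E) hT x (h₂ E hE n _) rfl
  rw [← hy]
  cases n with
  | zero =>
    obtain ⟨a, rfl⟩ := (mk₀_bijective _ _).2 y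
    obtain ⟨t, ht⟩ := hs E hE (secEquiv E T.X₃ a)
    have h1 : (secEquiv E T.X₂).symm t ≫ T.g = a := by
      apply (secEquiv E T.X₃).injective
      rw [secEquiv_comp, AddEquiv.apply_symm_apply, ht]
    rw [← h1, ← mk₀_comp_mk₀, Ext.comp_assoc_of_second_deg_zero, hT.comp_extClass, Ext.comp_zero]
  | succ n =>
    rw [h₃ E hE n y, Ext.zero_comp]

theorem exists_embedding (F : AbEt X) : ∃ (I G : AbEt X) (a : F ⟶ I) (b : I ⟶ G) (w : a ≫ b = 0)
    (_ : (ShortComplex.mk a b w).ShortExact), Injective I :=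
  ⟨Injective.under F, cokernel (Injective.ι F), Injective.ι F, cokernel.π _, cokernel.condition _,
    { exact := ShortComplex.exact_cokernel _
      mono_f := inferInstanceAs (Mono (Injective.ι F))
      epi_g := inferInstanceAs (Epi (cokernel.π _)) }, inferInstance⟩

end K643.ObjCoh
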