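import Mathlib.Algebra.Homology.DerivedCategory.Ext.ExactSequences
import Mathlib.CategoryTheory.Preadditive.Injective.Basic

/-!
# Shifting properties of Ext groups along a short exact sequence with acyclic middle term

For a short exact sequence `0 → F → I → G → 0` such that the higher Ext groups of `Z` and `Z'` with values in `I` vanish and
`z : Z' ⟶ Z`:

* `van_iff`, `van_one_iff`: vanishing of `Ext^{n+1}(Z, F)` in terms of `G`;
* `surj_iff`, `surj_one_iff`: surjectivity of `Ext^{n+1}(Z, F) → Ext^{n+1}(Z', F)` in terms of `G`.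
-/

set_option autoImplicit false
universe w v u

open CategoryTheory CategoryTheory.Limits
open CategoryTheory.Abelian (Ext)
open CategoryTheory.Abelian.Ext

namespace K643.PropShift

variable {C : Type u} [Category.{v} C] [Abelian C] [HasExt.{w} C]
variable {T : ShortComplex C} (hT : T.ShortExact)

include hT

/-- the connecting map is surjective -/
theorem exists_δ (Z : C) (n : ℕ) (h : ∀ x : Ext.{w} Z T.X₂ (n + 1), x = 0) (x : Ext.{w} Z T.X₁ (n + 1)) :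
    ∃ y : Ext.{w} Z T.X₃ n, y.comp hT.extClass rfl = x :=
  covariant_sequence_exact₁ Z hT x (h _) rfl

/-- the kernel of the connecting map -/
theorem exists_of_δ (Z : C) (n : ℕ) (y : Ext.{w} Z T.X₃ n) (h : y.comp hT.extClass rfl = 0) :
    ∃ t : Ext.{w} Z T.X₂ n, t.comp (mk₀ T.g) (add_zero n) = y :=
  covariant_sequence_exact₃ Z hT y rfl h

theorem δ_g (Z : C) (n : ℕ) (t : Ext.{w} Z T.X₂ n) :
    (t.comp (mk₀ T.g) (add_zero n)).comp hT.extClass rfl = 0 := by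
  rw [Ext.comp_assoc_of_second_deg_zero, hT.comp_extClass, Ext.comp_zero]

theorem eq_zero_of_δ (Z : C) (n : ℕ) (h : ∀ x : Ext.{w} Z T.X₂ (n + 1), x = 0) (y : Ext.{w} Z T.X₃ (n + 1))
    (hy : y.comp hT.extClass rfl = 0) : y = 0 := by
  obtain ⟨t, rfl⟩ := exists_of_δ hT Z _ y hy
  rw [h t, Ext.zero_comp]

theorem δ_injective (Z : C) (n : ℕ) (h : ∀ x : Ext.{w} Z T.X₂ (n + 1), x = 0) {y y' : Ext.{w} Z T.X₃ (n + 1)}
    (hy : y.comp hT.extClass rfl = y'.comp hT.extClass rfl) : y = y' := by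
  have h1 : (y + -y').comp hT.extClass rfl = 0 := by
    rw [Ext.add_comp, Ext.neg_comp, hy, add_neg_cancel]
  have h2 := eq_zero_of_δ hT Z n h _ h1
  rwa [add_neg_eq_zero] at h2

/-- dimension shifting for the vanishing of Ext groups -/
theorem van_iff (Z : C) (n : ℕ) (h : ∀ (m : ℕ) (x : Ext.{w} Z T.X₂ (m + 1)), x = 0) :
    (∀ x : Ext.{w} Z T.X₁ (n + 1 + 1), x = 0) ↔ (∀ x : Ext.{w} Z T.X₃ (n + 1), x = 0) := by
  constructor
  · intro h1 y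
    exact eq_zero_of_δ hT Z n (h n) y (h1 _)
  · intro h1 x
    obtain ⟨y, rfl⟩ := exists_δ hT Z (n + 1) (h _) x
    rw [h1 y, Ext.zero_comp]

/-- vanishing of `Ext^1` -/
theorem van_one_iff (Z : C) (h : ∀ (m : ℕ) (x : Ext.{w} Z T.X₂ (m + 1)), x = 0) :
    (∀ x : Ext.{w} Z T.X₁ (0 + 1), x = 0) ↔ ∀ g : Z ⟶ T.X₃, ∃ i : Z ⟶ T.X₂, i ≫ T.g = g := by
  constructor
  · intro h1 g
    obtain ⟨t, ht⟩ := exists_of_δ hT Z 0 (mk₀ g) (h1 _)
    obtain ⟨i, rfl⟩ := (mk₀_bijective _ _).2 t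
    rw [mk₀_comp_mk₀] at ht
    exact ⟨i, (mk₀_bijective _ _).1 ht⟩
  · intro h1 x
    obtain ⟨y, rfl⟩ := exists_δ hT Z 0 (h _) x
    obtain ⟨g, rfl⟩ := (mk₀_bijective _ _).2 y
    obtain ⟨i, rfl⟩ := h1 g
    rw [← mk₀_comp_mk₀, δ_g]

omit hT in
theorem pre_comp {Z Z' A B : C} (z : Z' ⟶ Z) {n m k : ℕ} (x : Ext.{w} Z A n) (y : Ext.{w} A B m) (h : n + m = k) :
    (mk₀ z).comp (x.comp y h) (zero_add k) = ((mk₀ z).comp x (zero_add n)).comp y h := by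
  subst h
  exact (Ext.comp_assoc _ _ _ (zero_add n) rfl (by omega)).symm

/-- dimension shifting for the surjectivity of restriction maps -/
theorem surj_iff {Z Z' : C} (z : Z' ⟶ Z) (n : ℕ)
    (h' : ∀ (m : ℕ) (x : Ext.{w} Z' T.X₂ (m + 1)), x = 0)
    (h : ∀ (m : ℕ) (x : Ext.{w} Z T.X₂ (m + 1)), x = 0) :
    (∀ x' : Ext.{w} Z' T.X₁ (n + 1 + 1), ∃ x : Ext.{w} Z T.X₁ (n + 1 + 1), (mk₀ z).comp x (zero_add _) = x') ↔
      (∀ x' : Ext.{w} Z' T.X₃ (n + 1), ∃ x : Ext.{w} Z T.X₃ (n + 1), (mk₀ z).comp x (zero_add _) = x') := by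
  constructor
  · intro h1 y'
    obtain ⟨x, hx⟩ := h1 (y'.comp hT.extClass rfl)
    obtain ⟨y, rfl⟩ := exists_δ hT Z (n + 1) (h _) x
    refine ⟨y, ?_⟩
    rw [pre_comp] at hx
    exact δ_injective hT Z' n (h' _) hx
  · intro h1 x'
    obtain ⟨y', rfl⟩ := exists_δ hT Z' (n + 1) (h' _) x'
    obtain ⟨y, rfl⟩ := h1 y'
    exact ⟨y.comp hT.extClass rfl, pre_comp _ _ _ _⟩

/-- surjectivity of the restriction map in degree one -/
theorem surj_one_iff {Z Z' : C} (z : Z' ⟶ Z)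
    (h' : ∀ (m : ℕ) (x : Ext.{w} Z' T.X₂ (m + 1)), x = 0)
    (h : ∀ (m : ℕ) (x : Ext.{w} Z T.X₂ (m + 1)), x = 0) :
    (∀ x' : Ext.{w} Z' T.X₁ (0 + 1), ∃ x : Ext.{w} Z T.X₁ (0 + 1), (mk₀ z).comp x (zero_add _) = x') ↔
      ∀ g' : Z' ⟶ T.X₃, ∃ (g : Z ⟶ T.X₃) (i' : Z' ⟶ T.X₂), g' = z ≫ g + i' ≫ T.g := by
  constructor
  · intro h1 g'
    obtain ⟨x, hx⟩ := h1 ((mk₀ g').comp hT.extClass rfl)
    obtain ⟨y, rfl⟩ := exists_δ hT Z 0 (h _) x
    obtain ⟨g, rfl⟩ := (mk₀_bijective _ _).2 y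
    rw [pre_comp, mk₀_comp_mk₀] at hx
    have h2 : (mk₀ (g' - z ≫ g)).comp hT.extClass (rfl : 0 + 1 = 0 + 1) = 0 := by
      rw [sub_eq_add_neg, mk₀_add, Ext.add_comp, mk₀_neg, Ext.neg_comp, hx, add_neg_cancel]
    obtain ⟨t, ht⟩ := exists_of_δ hT Z' 0 _ h2
    obtain ⟨i', rfl⟩ := (mk₀_bijective _ _).2 t
    rw [mk₀_comp_mk₀] at ht
    refine ⟨g, i', ?_⟩
    rw [(mk₀_bijective _ _).1 ht]
    abel
  · intro h1 x'
    obtain ⟨y', rfl⟩ := exists_δ hT Z' 0 (h' _) x'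
    obtain ⟨g', rfl⟩ := (mk₀_bijective _ _).2 y'
    obtain ⟨g, i', rfl⟩ := h1 g'
    refine ⟨(mk₀ g).comp hT.extClass rfl, ?_⟩
    rw [pre_comp, mk₀_comp_mk₀, mk₀_add, Ext.add_comp, ← mk₀_comp_mk₀ i' T.g, δ_g, add_zero]

end K643.PropShift
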