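import Groth.Agent.AlgSp.K643.BcFlat
import Groth.Agent.Etbase.LanFlat
import Mathlib.CategoryTheory.Sites.Pullback

/-!
# The inverse image of abelian sheaves along a representable morphism is exact

* `isRightAdjoint_push`, `preservesFiniteLimits_pull`, `preservesFiniteColimits_pull`,
  `injective_push` (push forward of an injective sheaf is injective).
-/

set_option autoImplicit false
universe v v' w u

open CategoryTheory CategoryTheory.Limits AlgebraicGeometry Opposite AlgSp

set_option backward.isDefEq.respectTransparency false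

namespace K643.Pull

section Gen

theorem preservesFiniteLimits_of_isZero {C D : Type*} [Category* C] [Category* D]
    (F : C ⥤ D) (h : ∀ X, IsZero (F.obj X)) : PreservesFiniteLimits F := by
  refine ⟨fun J _ _ => ⟨fun {K} => ⟨fun {c} _ => ⟨?_⟩⟩⟩⟩
  exact
    { lift := fun s => (h c.pt).from_ s.pt
      fac := fun s j => (h (K.obj j)).eq_of_tgt _ _
      uniq := fun s m _ => (h c.pt).eq_of_tgt _ _ }

theorem colim_preservesFiniteLimits (K : Type*) [Category* K] [IsFilteredOrEmpty K]
    (A : Type*) [Category* A] [HasColimitsOfShape K A] [HasZeroObject A] [HasFiniteLimits A]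
    (h : IsFiltered K → PreservesFiniteLimits (colim : (K ⥤ A) ⥤ A)) :
    PreservesFiniteLimits (colim : (K ⥤ A) ⥤ A) := by
  by_cases hK : Nonempty K
  · have : IsFiltered K := { }
    exact h this
  · have : IsEmpty K := not_nonempty_iff.1 hK
    refine preservesFiniteLimits_of_isZero _ (fun F => ?_)
    have hi : IsInitial (colimit F) := by
      refine IsInitial.ofUniqueHom (fun Y => colimit.desc F ⟨Y, ⟨fun k => isEmptyElim k,
        fun {k} => isEmptyElim k⟩⟩) (fun Y m => ?_)
      apply colimit.hom_ext
      exact fun k => isEmptyElim k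
    exact (isZero_zero A).of_iso (hi.uniqueUpToIso (isZero_zero A).isInitial)

variable {C : Type (u + 1)} {D : Type (u + 1)} [Category.{u} C] [Category.{u} D]

open Groth.Agent.Etbase.LanFlat in
theorem preservesFiniteLimits_op_lan (F : C ⥤ D)
    [∀ X : D, IsCofilteredOrEmpty (StructuredArrow X F)]
    [∀ X : Dᵒᵖ, HasColimitsOfShape (CostructuredArrow F.op X) AddCommGrpCat.{u + 1}] :
    PreservesFiniteLimits (F.op.lan : _ ⥤ Dᵒᵖ ⥤ AddCommGrpCat.{u + 1}) := by
  have h : ∀ X : Dᵒᵖ, PreservesFiniteLimits
      (colim : (CostructuredArrow F.op X ⥤ AddCommGrpCat.{u + 1}) ⥤ AddCommGrpCat.{u + 1}) := by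
    intro X
    have hfl : IsFilteredOrEmpty (CostructuredArrow F.op X) :=
      IsFilteredOrEmpty.of_equivalence (structuredArrowOpEquivalence F (unop X))
    refine colim_preservesFiniteLimits _ _ (fun hf => ?_)
    have : HasFilteredColimitsOfSize.{u, u + 1} AddCommGrpCat.{u + 1} :=
      hasFilteredColimitsOfSize_shrink.{u, u + 1, u + 1, u + 1}
    have : AB5OfSize.{u, u + 1} AddCommGrpCat.{u + 1} :=
      AB5OfSize_shrink.{u, u + 1, u + 1, u + 1} _
    exact HasExactColimitsOfShape.preservesFiniteLimits
  constructor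
  intro J _ _
  apply preservesLimitsOfShape_of_evaluation (F.op.lan : (Cᵒᵖ ⥤ AddCommGrpCat.{u + 1}) ⥤
    Dᵒᵖ ⥤ AddCommGrpCat.{u + 1}) J
  intro K
  have := h K
  have : PreservesLimitsOfShape J ((Functor.whiskeringLeft _ _ AddCommGrpCat.{u + 1}).obj
      (CostructuredArrow.proj F.op K) ⋙ colim) := inferInstance
  exact preservesLimitsOfShape_of_natIso (lanEvaluationIsoColim' _ _ _).symm

end Gen

variable {S : Scheme.{u}} {X Y : Sp S} {f : X ⟶ Y} (hf : Representable f)

theorem hasColimits_aux (U : (EtOver X)ᵒᵖ) :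
    HasColimitsOfShape (CostructuredArrow (EtOver.bc hf).op U) AddCommGrpCat.{u + 1} := by
  have : HasColimitsOfSize.{u, u + 1} AddCommGrpCat.{u + 1} :=
    hasColimitsOfSizeShrink.{u, u + 1, u + 1, u + 1} _
  infer_instance

theorem hasLan (F : (EtOver Y)ᵒᵖ ⥤ AddCommGrpCat.{u + 1}) :
    (EtOver.bc hf).op.HasLeftKanExtension F := by
  have := hasColimits_aux hf
  infer_instance

theorem isRightAdjoint_push : (pushEt hf AddCommGrpCat.{u + 1}).IsRightAdjoint := by
  have := hasLan hf
  infer_instance

attribute [local instance] isRightAdjoint_push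

theorem preservesFiniteLimits_pull : PreservesFiniteLimits (pullEt hf AddCommGrpCat.{u + 1}) := by
  have := hasColimits_aux hf
  have := hasLan hf
  have h1 : PreservesFiniteLimits ((EtOver.bc hf).op.lan : _ ⥤ (EtOver X)ᵒᵖ ⥤ AddCommGrpCat.{u + 1}) :=
    preservesFiniteLimits_op_lan _
  have h2 : PreservesFiniteLimits ((EtOver.bc hf).op.lan ⋙
      presheafToSheaf (etTop X) AddCommGrpCat.{u + 1}) := comp_preservesFiniteLimits _ _
  have h3 : PreservesFiniteLimits (Functor.sheafPullbackConstruction.sheafPullback (EtOver.bc hf)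
      AddCommGrpCat.{u + 1} (etTop Y) (etTop X)) :=
    comp_preservesFiniteLimits (sheafToPresheaf _ _) _
  exact preservesFiniteLimits_of_natIso (Functor.sheafPullbackConstruction.sheafPullbackIso
    (EtOver.bc hf) AddCommGrpCat.{u + 1} (etTop Y) (etTop X)).symm

theorem additive_pull : (pullEt hf AddCommGrpCat.{u + 1}).Additive :=
  (pullPushAdjEt hf AddCommGrpCat.{u + 1}).left_adjoint_additive

theorem preservesFiniteColimits_pull : PreservesFiniteColimits (pullEt hf AddCommGrpCat.{u + 1}) := by
  have : PreservesColimitsOfSize.{0, 0} (pullEt hf AddCommGrpCat.{u + 1}) :=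
    (pullPushAdjEt hf AddCommGrpCat.{u + 1}).leftAdjoint_preservesColimits
  exact PreservesColimitsOfSize.preservesFiniteColimits _

theorem injective_push (I : AbEt X) [Injective I] :
    Injective ((pushEt hf AddCommGrpCat.{u + 1}).obj I) := by
  have := preservesFiniteLimits_pull hf
  exact Injective.injective_of_adjoint (pullPushAdjEt hf AddCommGrpCat.{u + 1}) I

end K643.Pull
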