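import Groth.Agent.AlgSp.K643.Pull
import Groth.Agent.AlgSp.K643.CechX
import Mathlib.CategoryTheory.Sites.CoversTop.Basic

/-!
# The inverse image of the constant sheaf is constant

For `f : X ⟶ Y` representable, `Y` with an etale surjective chart:
* `coversTop_bc`: the objects `bc E` cover the top;
* `exists_extend`, `ext_of_bc`: maps from a constant presheaf to a sheaf on `X` are determined by
  their restriction along `bc`;
* `tau : pull (const A) ⟶ const A` is an isomorphism.
-/

set_option autoImplicit false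
universe u

open CategoryTheory CategoryTheory.Limits AlgebraicGeometry Opposite AlgSp

set_option backward.isDefEq.respectTransparency false

namespace K643.PushConst

open K643.Site K643.CechX K643.BcFlat K643.Pull

attribute [local instance 3000] hasSheafify_et wEqualsLocallyBijective_et hasSheafCompose_et hasExt_et

variable {S : Scheme.{u}}

theorem coversTop_of_cover' {X : Sp S} {κ : Type*} {Z : κ → EtOver X} {E₀ : EtOver X} (hs : Surj E₀)
    (h : Sieve.ofObjects Z E₀ ∈ etTop X E₀) : (etTop X).CoversTop Z := by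
  intro E
  refine (etTop X).transitive (S := Sieve.ofArrows (fun _ : Unit => EtOver.prodObj E E₀)
    (fun _ => EtOver.prodFst E E₀)) ?_ _ ?_
  · rw [mem_iff]
    intro x
    have h1 : Surjective (schMap (EtOver.prodFst E E₀)) :=
      hs.2 _ _ _ (K643.Qcqs.isPullback_prodObj E E₀).flip
    obtain ⟨v, hv⟩ := h1.surj x
    exact ⟨_, EtOver.prodFst E E₀, v, Sieve.ofArrows_mk _ _ (), hv⟩
  · rintro Z f hf
    obtain ⟨_, g, _, ⟨⟩, rfl⟩ := hf
    refine (etTop X).superset_covering ?_ ((etTop X).pullback_stable (g ≫ EtOver.prodSnd E E₀) h)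
    rintro W k ⟨i, ⟨l⟩⟩
    exact ⟨i, ⟨l⟩⟩

/-- an algebraic space has a surjective object in its small etale site -/
theorem exists_surj {Y : Sp S} (hY : IsAlgSpace Y) : ∃ E : EtOver Y, Surj E := by
  obtain ⟨U, p, he, hs⟩ := hY.atlas
  exact ⟨EtOver.mk p he, hs⟩

variable {X Y : Sp S} {f : X ⟶ Y} (hf : Representable f)

theorem surj_bc {E : EtOver Y} (hs : Surj E) : Surj ((EtOver.bc hf).obj E) :=
  MorphismProperty.of_isPullback (P := RepWith (S := S) @Surjective)
    (EtOver.isPullback_bcObj hf E).flip hs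

theorem coversTop_bc (hY : ∃ E : EtOver Y, Surj E) :
    (etTop X).CoversTop (fun E : EtOver Y => (EtOver.bc hf).obj E) := by
  obtain ⟨E, hE⟩ := hY
  refine coversTop_of_cover' (surj_bc hf hE) ?_
  refine (etTop X).superset_covering ?_ ((etTop X).top_mem _)
  rintro W k -
  exact ⟨E, ⟨k⟩⟩

section Extend

variable (F : AbEt X)

theorem isSheaf_forget' : Presheaf.IsSheaf (etTop X) (F.obj ⋙ CategoryTheory.forget AddCommGrpCat.{u + 1}) :=
  ((sheafCompose (etTop X) (CategoryTheory.forget AddCommGrpCat.{u + 1})).obj F).property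

variable {F} in
theorem ext_of_bc (hY : ∃ E : EtOver Y, Surj E) {U : EtOver X} {s t : F.obj.obj (op U)}
    (h : ∀ (Z : EtOver X) (g : Z ⟶ U) (E : EtOver Y) (_ : Z ⟶ (EtOver.bc hf).obj E),
      F.obj.map g.op s = F.obj.map g.op t) : s = t := by
  refine (((isSheaf_iff_isSheaf_of_type _ _).1 (isSheaf_forget' F)).isSeparated _
    (coversTop_bc hf hY U)).ext ?_
  rintro Z g ⟨E, ⟨k⟩⟩
  exact h Z g E k

/-- extension of a family of sections over the `bc E` -/
theorem exists_section (hY : ∃ E : EtOver Y, Surj E)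
    (t : ∀ E : EtOver Y, F.obj.obj (op ((EtOver.bc hf).obj E)))
    (ht : ∀ {E E' : EtOver Y} (g : E ⟶ E'), F.obj.map ((EtOver.bc hf).map g).op (t E') = t E) :
    ∃ s : ∀ U : EtOver X, F.obj.obj (op U), (∀ {U V : EtOver X} (g : V ⟶ U),
      F.obj.map g.op (s U) = s V) ∧ ∀ E, s ((EtOver.bc hf).obj E) = t E := by
  let x : Presheaf.FamilyOfElementsOnObjects (F.obj ⋙ CategoryTheory.forget AddCommGrpCat.{u + 1})
    (fun E : EtOver Y => (EtOver.bc hf).obj E) := t
  have hx : x.IsCompatible := by
    intro Z E E' g g'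
    have h1 := ht (EtOver.prodFst E E')
    have h2 := ht (EtOver.prodSnd E E')
    have e1 : F.obj.map g.op (t E) = F.obj.map (bcPair hf g g').op (t (EtOver.prodObj E E')) := by
      rw [← h1, ← ConcreteCategory.comp_apply, ← F.obj.map_comp, ← op_comp, bcPair_fst]
    have e2 : F.obj.map g'.op (t E') = F.obj.map (bcPair hf g g').op (t (EtOver.prodObj E E')) := by
      rw [← h2, ← ConcreteCategory.comp_apply, ← F.obj.map_comp, ← op_comp, bcPair_snd]
    exact e1.trans e2.symm
  let s := hx.section_ (coversTop_bc hf hY) (isSheaf_forget' F)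
  exact ⟨fun U => s.1 (op U), fun g => s.2 g.op, fun E =>
    hx.section_apply (coversTop_bc hf hY) (isSheaf_forget' F) E⟩

/-- restriction along `bc` of maps from a constant presheaf to a sheaf is bijective -/
theorem bijective_whisker (hY : ∃ E : EtOver Y, Surj E) (A : AddCommGrpCat.{u + 1}) :
    Function.Bijective (fun φ : (Functor.const (EtOver X)ᵒᵖ).obj A ⟶ F.obj =>
      (Functor.whiskerLeft (EtOver.bc hf).op φ :
        (Functor.const (EtOver Y)ᵒᵖ).obj A ⟶ (EtOver.bc hf).op ⋙ F.obj)) := by
  constructor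
  · intro φ ψ h
    refine NatTrans.ext (funext fun U => AddCommGrpCat.hom_ext (AddMonoidHom.ext fun a => ?_))
    refine ext_of_bc hf hY (fun Z g E k => ?_)
    have h1 : ∀ χ : (Functor.const (EtOver X)ᵒᵖ).obj A ⟶ F.obj,
        F.obj.map g.op (χ.app U a) = F.obj.map k.op (χ.app (op ((EtOver.bc hf).obj E)) a) := by
      intro χ
      have e1 := ConcreteCategory.congr_hom (χ.naturality g.op) a
      have e2 := ConcreteCategory.congr_hom (χ.naturality k.op) a
      exact e1.symm.trans e2
    have h2 : φ.app (op ((EtOver.bc hf).obj E)) = ψ.app (op ((EtOver.bc hf).obj E)) :=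
      congrArg (fun c => c.app (op E)) h
    exact (h1 φ).trans ((congrArg (fun c => F.obj.map k.op (c.hom a)) h2).trans (h1 ψ).symm)
  · intro ψ
    have h1 : ∀ a : A, ∃ s : ∀ U : EtOver X, F.obj.obj (op U), (∀ {U V : EtOver X} (g : V ⟶ U),
      F.obj.map g.op (s U) = s V) ∧ ∀ E, s ((EtOver.bc hf).obj E) = ψ.app (op E) a := by
      intro a
      refine exists_section hf F hY (fun E => ψ.app (op E) a) (fun {E E'} g => ?_)
      exact (ConcreteCategory.congr_hom (ψ.naturality g.op) a).symm
    choose s hs hs' using h1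
    have hkey : ∀ (a : A) (Z : EtOver X) (E : EtOver Y) (k : Z ⟶ (EtOver.bc hf).obj E),
        s a Z = F.obj.map k.op (ψ.app (op E) a) := by
      intro a Z E k
      rw [← hs' a E, hs]
    have hadd : ∀ (a b : A) (U : EtOver X), s (a + b) U = s a U + s b U := by
      intro a b U
      refine ext_of_bc hf hY (fun Z g E k => ?_)
      rw [map_add, hs, hs, hs, hkey _ Z E k, hkey _ Z E k, hkey _ Z E k, ← map_add]
      exact congrArg _ (map_add (ψ.app (op E)).hom a b)
    refine ⟨{ app := fun U => AddCommGrpCat.ofHom (AddMonoidHom.mk' (fun a => s a U.unop)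
                (fun a b => hadd a b U.unop))
              naturality := fun U V g => AddCommGrpCat.hom_ext (AddMonoidHom.ext fun a =>
                (hs a g.unop).symm) }, ?_⟩
    refine NatTrans.ext (funext fun E => AddCommGrpCat.hom_ext (AddMonoidHom.ext fun a => ?_))
    exact hs' a E.unop

end Extend

section Const

attribute [local instance] isRightAdjoint_push

/-- abelian sheaves: maps out of the constant sheaf -/
noncomputable def constEquiv {X : Sp S} (A : AddCommGrpCat.{u + 1}) (F : AbEt X) :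
    ((constantSheaf (etTop X) AddCommGrpCat.{u + 1}).obj A ⟶ F) ≃
      ((Functor.const (EtOver X)ᵒᵖ).obj A ⟶ F.obj) :=
  (sheafificationAdjunction (etTop X) AddCommGrpCat.{u + 1}).homEquiv _ _

theorem constEquiv_comp {X : Sp S} (A : AddCommGrpCat.{u + 1}) {F G : AbEt X}
    (φ : (constantSheaf (etTop X) AddCommGrpCat.{u + 1}).obj A ⟶ F) (g : F ⟶ G) :
    constEquiv A G (φ ≫ g) = constEquiv A F φ ≫ g.hom :=
  (sheafificationAdjunction (etTop X) AddCommGrpCat.{u + 1}).homEquiv_naturality_right _ _

variable (A : AddCommGrpCat.{u + 1})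

/-- the map `A_Y ⟶ f_* A_X` -/
noncomputable def constPush : (constantSheaf (etTop Y) AddCommGrpCat.{u + 1}).obj A ⟶
    (pushEt hf AddCommGrpCat.{u + 1}).obj ((constantSheaf (etTop X) AddCommGrpCat.{u + 1}).obj A) :=
  (constEquiv A _).symm (Functor.whiskerLeft (EtOver.bc hf).op (constEquiv A _ (𝟙 _)))

/-- the map `f⁻¹ A_Y ⟶ A_X` -/
noncomputable def tau : (pullEt hf AddCommGrpCat.{u + 1}).obj
    ((constantSheaf (etTop Y) AddCommGrpCat.{u + 1}).obj A) ⟶
      (constantSheaf (etTop X) AddCommGrpCat.{u + 1}).obj A :=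
  ((pullPushAdjEt hf AddCommGrpCat.{u + 1}).homEquiv _ _).symm (constPush hf A)

theorem tau_comp {F : AbEt X} (φ : (constantSheaf (etTop X) AddCommGrpCat.{u + 1}).obj A ⟶ F) :
    constEquiv A _ ((pullPushAdjEt hf AddCommGrpCat.{u + 1}).homEquiv _ _ (tau hf A ≫ φ)) =
      Functor.whiskerLeft (EtOver.bc hf).op (constEquiv A F φ) := by
  rw [Adjunction.homEquiv_naturality_right, tau, Equiv.apply_symm_apply, constEquiv_comp, constPush,
    Equiv.apply_symm_apply]
  have h : constEquiv A F φ = constEquiv A _ (𝟙 _) ≫ φ.hom := by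
    rw [← constEquiv_comp, Category.id_comp]
  rw [h]
  rfl

theorem isIso_tau (hY : ∃ E : EtOver Y, Surj E) : IsIso (tau hf A) := by
  refine isIso_of_coyoneda_map_bijective _ (fun F => ?_)
  have h := bijective_whisker hf F hY A
  have h2 : (fun φ : (constantSheaf (etTop X) AddCommGrpCat.{u + 1}).obj A ⟶ F => tau hf A ≫ φ) =
      ((pullPushAdjEt hf AddCommGrpCat.{u + 1}).homEquiv _ _).symm ∘
        (constEquiv A ((pushEt hf AddCommGrpCat.{u + 1}).obj F)).symm ∘
        (fun φ : (Functor.const (EtOver X)ᵒᵖ).obj A ⟶ F.obj =>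
          (Functor.whiskerLeft (EtOver.bc hf).op φ :
            (Functor.const (EtOver Y)ᵒᵖ).obj A ⟶ (EtOver.bc hf).op ⋙ F.obj)) ∘
        (constEquiv A F) := by
    funext φ
    simp only [Function.comp_apply]
    rw [← tau_comp, Equiv.symm_apply_apply, Equiv.symm_apply_apply]
  rw [h2]
  exact (Equiv.bijective _).comp ((Equiv.bijective _).comp (h.comp (Equiv.bijective _)))

end Const

end K643.PushConst
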