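import Groth.Agent.AlgSp.K643.PushConst
import Groth.Agent.AlgSp.K643.PushEt
import Groth.Agent.AlgSp.K643.ObjCoh
import Groth.Agent.Etbase.AdjCmp530
import Groth.Agent.Cohder.RDAcyc

/-!
# Vanishing of `R^q f_*` and comparison of cohomology

For `f : X ⟶ Y` representable and `F` an abelian sheaf on `X` acyclic over the base changes of
sufficiently many objects of the small etale site of `Y` (`LocB`):
* `isZero_Rpush`: `R^q f_* F = 0` for `q > 0`;
* `bijective_cmp`, `nonempty_H_equiv`: `H^n(Y, f_* F) ≃ H^n(X, F)`;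
* `cmpE_bijective`: `H^n(E, f_* F) ≃ H^n(bc E, F)`.
-/

set_option autoImplicit false
universe v v' w w' u

open CategoryTheory CategoryTheory.Limits AlgebraicGeometry Opposite AlgSp
open CategoryTheory.Abelian (Ext)
open Groth.Agent.Etbase.FreeSheaf Groth.Agent.Etbase.CechFamily

set_option backward.isDefEq.respectTransparency false

namespace K643.PushH

section Gen

variable {A : Type w} {B : Type w'} [Category.{v} A] [Category.{v'} B] [Abelian A] [Abelian B]
  [HasInjectiveResolutions A]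

/-- vanishing of derived functors on a class of objects -/
theorem isZero_rightDerived_of_class (F : A ⥤ B) [F.Additive] [PreservesFiniteLimits F]
    (P : A → Prop)
    (hP : ∀ M, P M → ∃ (I G : A) (a : M ⟶ I) (b : I ⟶ G) (w : a ≫ b = 0)
      (_ : (ShortComplex.mk a b w).ShortExact), Injective I ∧ P G ∧ Epi (F.map b))
    (q : ℕ) (M : A) (hM : P M) : IsZero ((F.rightDerived (q + 1)).obj M) := by
  induction q generalizing M with
  | zero =>
    obtain ⟨I, G, a, b, w, hS, hI, hG, hb⟩ := hP M hM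
    obtain ⟨δ, hδ⟩ := (Groth.Agent.Cohder.RDLES.exists_les F hS).2.2
    obtain ⟨w₁, w₂, h, h'⟩ := hδ 0
    have hg' : Epi ((F.rightDerived 0).map b) := by
      have e := F.rightDerivedZeroIsoSelf.hom.naturality b
      have : (F.rightDerived 0).map b =
          F.rightDerivedZeroIsoSelf.hom.app _ ≫ F.map b ≫
            F.rightDerivedZeroIsoSelf.inv.app _ := by
        rw [← Category.assoc, ← e]
        simp
      rw [this]
      infer_instance
    have hδ0 : δ 0 = 0 := (cancel_epi ((F.rightDerived 0).map b)).1 (w₁.trans comp_zero.symm)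
    exact h'.isZero_of_both_zeros hδ0 ((F.isZero_rightDerived_obj_injective_succ 0 I).eq_of_tgt _ _)
  | succ q ih =>
    obtain ⟨I, G, a, b, w, hS, hI, hG, hb⟩ := hP M hM
    exact Groth.Agent.Cohder.RDAcyc.isZero_X₁ F hS (q + 1) (ih G hG)
      (F.isZero_rightDerived_obj_injective_succ (q + 1) I)

end Gen

open K643.Site K643.CechX K643.Pull K643.PushConst K643.ObjCoh

attribute [local instance 3000] hasSheafify_et wEqualsLocallyBijective_et hasSheafCompose_et hasExt_et
attribute [local instance] isRightAdjoint_push preservesFiniteLimits_pull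
  preservesFiniteColimits_pull additive_pull

variable {S : Scheme.{u}} {X Y : Sp S} {f : X ⟶ Y} (hf : Representable f)

/-- every object of the small etale site of `Y` is covered by objects whose base change is in `B` -/
def LocB (B : EtOver X → Prop) : Prop :=
  ∀ (E : EtOver Y) (y : sch E), ∃ (E' : EtOver Y) (g : E' ⟶ E), y ∈ Set.range (schMap g) ∧
    B ((EtOver.bc hf).obj E')

variable {hf} {B : EtOver X → Prop} (hB : LocB hf B)

include hB

theorem epi_push {F G : AbEt X} (b : F ⟶ G)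
    (h : ∀ U, B U → Function.Surjective (b.hom.app (op U))) :
    Epi ((pushEt hf AddCommGrpCat.{u + 1}).map b) := by
  rw [PushEt.epi_iff]
  intro E s y
  obtain ⟨E', g, hy, hB'⟩ := hB E y
  obtain ⟨t, ht⟩ := h _ hB' (G.obj.map ((EtOver.bc hf).map g).op s)
  exact ⟨E', g, hy, t, ht⟩

theorem exists_ses (F : AbEt X) (hF : Acyc B F) :
    ∃ (I G : AbEt X) (a : F ⟶ I) (b : I ⟶ G) (w : a ≫ b = 0)
      (_ : (ShortComplex.mk a b w).ShortExact), Injective I ∧ Acyc B G ∧
      Epi ((pushEt hf AddCommGrpCat.{u + 1}).map b) := by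
  obtain ⟨I, G, a, b, w, hS, hI⟩ := exists_embedding F
  exact ⟨I, G, a, b, w, hS, hI, Acyc.X₃ hS (Acyc.of_injective B I) hF,
    epi_push hB b (fun U hU => surj_sections hS U (hF U hU 0))⟩

/-- **Vanishing** of higher direct images. -/
theorem isZero_Rpush (F : AbEt X) (hF : Acyc B F) (q : ℕ) (hq : 0 < q) :
    IsZero ((RpushEt hf q).obj F) := by
  obtain ⟨q, rfl⟩ : ∃ n, q = n + 1 := ⟨q - 1, by omega⟩
  exact isZero_rightDerived_of_class (pushEt hf AddCommGrpCat.{u + 1}) (Acyc B)
    (fun M hM => exists_ses hB M hM) q F hF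

theorem exists_ses' (F : AbEt X) (hF : Acyc B F) :
    ∃ (I Q : AbEt X) (f : F ⟶ I) (g : I ⟶ Q) (w : f ≫ g = 0)
      (_ : (ShortComplex.mk f g w).ShortExact), Injective I ∧ Acyc B Q ∧
        ((ShortComplex.mk f g w).map (pushEt hf AddCommGrpCat.{u + 1})).ShortExact := by
  obtain ⟨I, G, a, b, w, hS, hI, hG, hb⟩ := exists_ses hB F hF
  refine ⟨I, G, a, b, w, hS, hI, hG, ?_⟩
  have h1 := (pushEt hf AddCommGrpCat.{u + 1}).preservesFiniteLimits_iff_forall_exact_map_and_mono.1
    inferInstance _ hS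
  exact { exact := h1.1, mono_f := h1.2, epi_g := hb }

omit hB

section Const

variable (hf) (hY : ∃ E : EtOver Y, Surj E)

/-- `Z_X ⟶ f⁻¹ Z_Y` -/
noncomputable def alpha : (constantSheaf (etTop X) AddCommGrpCat.{u + 1}).obj
      (AddCommGrpCat.of (ULift.{u + 1} ℤ)) ⟶ (pullEt hf AddCommGrpCat.{u + 1}).obj
      ((constantSheaf (etTop Y) AddCommGrpCat.{u + 1}).obj (AddCommGrpCat.of (ULift.{u + 1} ℤ))) :=
  have := isIso_tau hf (AddCommGrpCat.of (ULift.{u + 1} ℤ)) hY
  inv (tau hf (AddCommGrpCat.of (ULift.{u + 1} ℤ)))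

theorem isIso_alpha : IsIso (alpha hf hY) := by
  have := isIso_tau hf (AddCommGrpCat.of (ULift.{u + 1} ℤ)) hY
  unfold alpha
  infer_instance

/-- the canonical map `H^n(Y, f_* F) ⟶ H^n(X, F)` -/
noncomputable def cmp (F : AbEt X) (n : ℕ) :
    HEt Y ((pushEt hf AddCommGrpCat.{u + 1}).obj F) n →+ HEt X F n :=
  Groth.Agent.Etbase.AdjCmp530.cmp (pullPushAdjEt hf AddCommGrpCat.{u + 1}) (alpha hf hY) F n

variable {hf}

include hB

/-- **Leray**: `H^n(Y, f_* F) ⟶ H^n(X, F)` is bijective if `F` is acyclic over base changes. -/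
theorem bijective_cmp (F : AbEt X) (hF : Acyc B F) (n : ℕ) : Function.Bijective (cmp hf hY F n) := by
  have := isIso_alpha hf hY
  exact Groth.Agent.Etbase.AdjCmp530.bijective_of_class (pullPushAdjEt hf AddCommGrpCat.{u + 1})
    (alpha hf hY) (Acyc B) (fun F hF => exists_ses' hB F hF) n F hF

theorem nonempty_H_equiv (hY : ∃ E : EtOver Y, Surj E) (F : AbEt X) (hF : Acyc B F) (n : ℕ) :
    Nonempty (HEt X F n ≃+ HEt Y ((pushEt hf AddCommGrpCat.{u + 1}).obj F) n) :=
  ⟨(AddEquiv.ofBijective _ (bijective_cmp hB hY F hF n)).symm⟩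

end Const

end K643.PushH
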