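import Groth.Prelude.Def_AlgSpOX
import Groth.Agent.Etbase.SiteColim

/-!
# The small etale site of an algebraic space: covering sieves, local arguments, products

* `mem_iff`: covering sieves of `EtOver X` are the jointly surjective ones.
* `sec_ext`, `sec_eq_zero`: sections of abelian sheaves which agree locally agree.
* `exists_pullback`: points of fibre products in the site.
-/

set_option autoImplicit false
universe u

open CategoryTheory CategoryTheory.Limits AlgebraicGeometry Opposite AlgSp

set_option backward.isDefEq.respectTransparency false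

namespace K643.Site

variable {S : Scheme.{u}} {X : Sp S}

/-- the underlying scheme of an object of the small etale site -/
abbrev sch (E : EtOver X) : Scheme.{u} := E.obj.left.left

/-- the underlying morphism of schemes of a morphism of the small etale site -/
abbrev schMap {E E' : EtOver X} (g : E ⟶ E') : sch E ⟶ sch E' := g.hom.left.left

instance etale_schMap {E E' : EtOver X} (g : E ⟶ E') : Etale (schMap g) := EtOver.etale_left g

@[simp] lemma schMap_comp {E E' E'' : EtOver X} (g : E ⟶ E') (h : E' ⟶ E'') :
    schMap (g ≫ h) = schMap g ≫ schMap h := rfl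

@[simp] lemma schMap_id (E : EtOver X) : schMap (𝟙 E) = 𝟙 _ := rfl

/-- Covering sieves of the small etale site: jointly surjective families. -/
theorem mem_iff (E : EtOver X) (R : Sieve E) :
    R ∈ etTop X E ↔ ∀ x : ↥(sch E), ∃ (V : EtOver X) (g : V ⟶ E) (v : ↥(sch V)), R g ∧
      schMap g v = x := by
  have : (etPre X).HasPullbacks := ⟨fun _ _ => ⟨fun _ => inferInstance⟩⟩
  rw [etTop, Precoverage.mem_toGrothendieck_iff_of_isStableUnderComposition]
  constructor
  · rintro ⟨R', hR', hle⟩ x
    obtain ⟨ι, Z, g, rfl⟩ := R'.exists_eq_ofArrows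
    obtain ⟨i, v, hv⟩ := (ofArrows_mem_etPre_iff Z g).1 hR' x
    exact ⟨Z i, g i, v, hle _ _ ⟨i⟩, hv⟩
  · intro h
    obtain ⟨ι, Z, g, hR⟩ := R.arrows.exists_eq_ofArrows
    refine ⟨R.arrows, ?_, le_rfl⟩
    rw [hR]
    refine (ofArrows_mem_etPre_iff Z g).2 fun x => ?_
    obtain ⟨V, k, v, hk, hv⟩ := h x
    rw [hR] at hk
    obtain ⟨i⟩ := hk
    exact ⟨i, v, hv⟩

end K643.Site
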