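import Groth.Agent.AlgSp.K643.ZarCmp
import Groth.Agent.AlgSp.K643.MVSet
import Groth.Agent.AlgSp.K643.Term
import Groth.Agent.AlgSp.K640.ElemDist
import Groth.Agent.AlgSp.K598.RepKit

/-!
# Mayer-Vietoris for open subspaces of an algebraic space

* `hG j` for `j : G ⟶ X`: the presheaf of sections of `G` over the small etale site of `X`; `HG j F n = Ext^n(Z[hG j], F)` is the cohomology
  of `G` with values in (the pullback of) `F` for `j` an open immersion;
* `Sq`: squares `U ⊂ W`, `f : V ⟶ W` etale surjective with `V` an object of the site and `f` an isomorphism over the complement of `U`;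
* `Sq.isMV`: they give Mayer-Vietoris squares.
-/

set_option autoImplicit false
universe u

open CategoryTheory CategoryTheory.Limits AlgebraicGeometry Opposite AlgSp
open CategoryTheory.Abelian (Ext)
open CategoryTheory.Abelian.Ext
open Groth.Agent.Etbase.FreeSheaf

set_option backward.isDefEq.respectTransparency false

namespace K643.SqSp

open K643.CechX K643.ObjCoh K643.PushAff K646.EtSite K643.ZarCmp K643.MVSet

attribute [local instance 3000] hasSheafify_et wEqualsLocallyBijective_et hasSheafCompose_et hasExt_et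

variable {S : Scheme.{u}} {X : Sp S}

/-- sections of `G` over the small etale site of `X` -/
def hG {G : Sp S} (j : G ⟶ X) : (EtOver X)ᵒᵖ ⥤ Type (u + 1) where
  obj E := {g : (yon S).obj E.unop.obj.left ⟶ G // g ≫ j = E.unop.obj.hom}
  map e := ↾fun g => ⟨(yon S).map e.unop.hom.left ≫ g.1, by rw [Category.assoc, g.2]; exact EtOver.w e.unop⟩
  map_id E := by
    apply ConcreteCategory.hom_ext
    intro g
    apply Subtype.ext
    change (yon S).map (𝟙 _) ≫ g.1 = g.1
    rw [CategoryTheory.Functor.map_id, Category.id_comp]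
  map_comp e e' := by
    apply ConcreteCategory.hom_ext
    intro g
    apply Subtype.ext
    change (yon S).map (e'.unop.hom.left ≫ e.unop.hom.left) ≫ g.1 = (yon S).map e'.unop.hom.left ≫ (yon S).map e.unop.hom.left ≫ g.1
    rw [Functor.map_comp, Category.assoc]

theorem hG_map {G : Sp S} (j : G ⟶ X) {E E' : EtOver X} (e : E' ⟶ E) (g : (hG j).obj (op E)) :
    ((hG j).map e.op g).1 = (yon S).map e.hom.left ≫ g.1 := rfl

/-- functoriality in `G` -/
def hMap {G G' : Sp S} (k : G ⟶ G') (j : G' ⟶ X) : hG (k ≫ j) ⟶ hG j where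
  app E := ↾fun g => ⟨g.1 ≫ k, by rw [Category.assoc]; exact g.2⟩
  naturality E E' e := by
    apply ConcreteCategory.hom_ext
    intro g
    apply Subtype.ext
    exact Category.assoc _ _ _

theorem hMap_app {G G' : Sp S} (k : G ⟶ G') (j : G' ⟶ X) {E : EtOver X} (g : (hG (k ≫ j)).obj (op E)) :
    ((hMap k j).app _ g).1 = g.1 ≫ k := rfl

/-- sections given by an object of the site -/
def yMap {V : EtOver X} {G : Sp S} (f : (yon S).obj V.obj.left ⟶ G) (j : G ⟶ X) (h : f ≫ j = V.obj.hom) :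
    uliftYoneda.{u + 1}.obj V ⟶ hG j where
  app E := ↾fun g => ⟨(yon S).map g.down.hom.left ≫ f, by rw [Category.assoc, h]; exact EtOver.w g.down⟩
  naturality E E' e := by
    apply ConcreteCategory.hom_ext
    intro g
    apply Subtype.ext
    change (yon S).map (e.unop.hom.left ≫ g.down.hom.left) ≫ f = (yon S).map e.unop.hom.left ≫ (yon S).map g.down.hom.left ≫ f
    rw [Functor.map_comp, Category.assoc]

theorem yMap_app {V : EtOver X} {G : Sp S} (f : (yon S).obj V.obj.left ⟶ G) (j : G ⟶ X) (h : f ≫ j = V.obj.hom)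
    {E : EtOver X} (g : E ⟶ V) : ((yMap f j h).app (op E) ⟨g⟩).1 = (yon S).map g.hom.left ≫ f := rfl

/-- cohomology of `G` over `X` -/
abbrev HG {G : Sp S} (j : G ⟶ X) (F : AbEt X) (n : ℕ) : Type (u + 1) := Ext.{u + 1} (Z (etTop X) (hG j)) F n

/-- a square `U ⊂ W`, `f : V ⟶ W` over `X` -/
structure Sq {U W : Sp S} (k : U ⟶ W) (j : W ⟶ X) (V A : EtOver X) (f : (yon S).obj V.obj.left ⟶ W) (a : A ⟶ V)
    (fa : (yon S).obj A.obj.left ⟶ U) : Prop where
  fj : f ≫ j = V.obj.hom
  faj : fa ≫ k ≫ j = A.obj.hom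
  pb : IsPullback fa ((yon S).map a.hom.left) k f
  mono_j : Mono j
  hk : RepWith @IsOpenImmersion k
  hf : RepWith @Etale f
  hs : RepWith @Surjective f
  iso : ∃ (T : Sp S) (i : T ⟶ W), IsRedInduced (Set.range (Points.map k))ᶜ i ∧
    ∀ (P : Sp S) (fst : P ⟶ T) (snd : P ⟶ (yon S).obj V.obj.left), IsPullback fst snd i f → IsIso fst

variable {U W : Sp S} {k : U ⟶ W} {j : W ⟶ X} {V A : EtOver X} {f : (yon S).obj V.obj.left ⟶ W} {a : A ⟶ V}
    {fa : (yon S).obj A.obj.left ⟶ U}

/-- the object of the site given by an etale map to the scheme of `E` -/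
noncomputable def ofEt (E : EtOver X) {b : Over S} (s : b ⟶ E.obj.left) (hs : Etale s.left) : EtOver X :=
  EtOver.mk ((yon S).map s ≫ E.obj.hom) ((repWith_isMultiplicative (S := S) @Etale).comp_mem _ _
    ((repWith_yon_map_iff _ _).2 hs) E.property)

/-- its structure map -/
noncomputable def ofEtHom (E : EtOver X) {b : Over S} (s : b ⟶ E.obj.left) (hs : Etale s.left) : ofEt E s hs ⟶ E :=
  EtOver.homMk s rfl

/-- local sections of `U` near a point over `U` -/
theorem exists_sec_of_mem (hk : RepWith @IsOpenImmersion k) {E : EtOver X} (z : (hG j).obj (op E)) (x : ↥(sch E))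
    (hx : Points.ofPt z.1 x ∈ Set.range (Points.map k)) :
    ∃ (E' : EtOver X) (g : E' ⟶ E), x ∈ Set.range (mor g) ∧ ∃ y : (hG (k ≫ j)).obj (op E'),
      (hMap k j).app _ y = (hG j).map g.op z := by
  obtain ⟨b, s, fst, sq⟩ := hk.1 z.1
  have hs : IsOpenImmersion s.left := hk.2 _ _ _ sq
  have hse : Etale s.left := inferInstance
  obtain ⟨p, hp⟩ := hx
  obtain ⟨v, -, hv⟩ := K610.Base.exists_of_isPullback_yon sq p x hp
  refine ⟨ofEt E s hse, ofEtHom E s hse, ⟨v, hv⟩, ⟨fst, ?_⟩, ?_⟩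
  · rw [← Category.assoc, sq.w, Category.assoc, z.2]
    rfl
  · apply Subtype.ext
    exact sq.w

/-- two sections of `V` with the same image in `W` agree locally outside `U` -/
theorem Sq.agree (h : Sq k j V A f a fa) {E : EtOver X} (y y' : E ⟶ V)
    (hy : (yon S).map y.hom.left ≫ f = (yon S).map y'.hom.left ≫ f) (x : ↥(sch E)) :
    ∃ (E' : EtOver X) (g : E' ⟶ E), x ∈ Set.range (mor g) ∧ (g ≫ y = g ≫ y' ∨ ∃ s : (hG (k ≫ j)).obj (op E'),
      (s.1 ≫ k = (yon S).map (g ≫ y).hom.left ≫ f)) := by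
  let z : (hG j).obj (op E) := (yMap f j h.fj).app (op E) ⟨y⟩
  by_cases ht : Points.ofPt z.1 x ∈ Set.range (Points.map k)
  · obtain ⟨E', g, hg, s, hs⟩ := exists_sec_of_mem h.hk z x ht
    refine ⟨E', g, hg, Or.inr ⟨s, ?_⟩⟩
    have h1 := congrArg Subtype.val hs
    refine h1.trans ?_
    change (yon S).map g.hom.left ≫ (yon S).map y.hom.left ≫ f = (yon S).map (g.hom.left ≫ y.hom.left) ≫ f
    rw [Functor.map_comp, Category.assoc]
  · obtain ⟨T, i, ⟨hi, hrange, hred⟩, hiso⟩ := h.iso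
    have ht' : Points.ofPt z.1 x ∈ Set.range (Points.map i) := by rw [hrange]; exact ht
    let u : (yon S).obj E.obj.left ⟶ (yon S).obj V.obj.left := (yon S).map y.hom.left
    let v : (yon S).obj E.obj.left ⟶ (yon S).obj V.obj.left := (yon S).map y'.hom.left
    have huv : u ≫ f = v ≫ f := hy
    have hVsp : IsAlgSpace ((yon S).obj V.obj.left) := IsAlgSpace.yon_obj _
    obtain ⟨E₁, e, -, -, he⟩ := K640.Equalizer.exists_isEq hVsp.diag u v
    have hfe : IsEtaleMor f := fun _ q hq => (repWith_isMultiplicative (S := S) @Etale).comp_mem _ _ hq h.hf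
    have h₂ : Etale e.left := K640.Equalizer.etale_of_isEq hVsp hfe huv he
    obtain ⟨τ, hτ⟩ := K640.ElemDist.factor_of_mem_range hi x (u ≫ f) ht'
    have sq := IsPullback.of_hasPullback i f
    have hp₁ := hiso _ _ _ sq
    have h3 : (yon S).map (K640.ElemDist.resMap x) ≫ u = (yon S).map (K640.ElemDist.resMap x) ≫ v := by
      have hu : τ ≫ i = ((yon S).map (K640.ElemDist.resMap x) ≫ u) ≫ f := by
        rw [Category.assoc, hτ]
      have hv : τ ≫ i = ((yon S).map (K640.ElemDist.resMap x) ≫ v) ≫ f := by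
        rw [Category.assoc, hτ, huv]
      have h4 : sq.lift _ _ hu = sq.lift _ _ hv := by
        rw [← cancel_mono (pullback.fst i f), sq.lift_fst, sq.lift_fst]
      rw [← sq.lift_snd _ _ hu, h4, sq.lift_snd]
    obtain ⟨l, hl⟩ := he.lift _ _ h3
    have hx : e.left (l.left (IsLocalRing.closedPoint _)) = x := by
      have : (l ≫ e).left (IsLocalRing.closedPoint _) = x := by rw [hl, K640.ElemDist.resMap_apply]
      exact this
    refine ⟨ofEt E e h₂, ofEtHom E e h₂, ⟨l.left (IsLocalRing.closedPoint _), hx⟩, Or.inl ?_⟩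
    apply EtOver.hom_ext
    exact (yon S).map_injective ((((yon S).map_comp _ _).trans he.w).trans ((yon S).map_comp _ _).symm)

/-- locally sections of `W` lift to `V` -/
theorem Sq.exists_lift (h : Sq k j V A f a fa) {E : EtOver X} (z : (hG j).obj (op E)) (x : ↥(sch E)) :
    ∃ (E' : EtOver X) (g : E' ⟶ E), x ∈ Set.range (mor g) ∧ ∃ y : E' ⟶ V,
      (yMap f j h.fj).app (op E') ⟨y⟩ = (hG j).map g.op z := by
  obtain ⟨b, s, fst, sq⟩ := h.hf.1 z.1
  have hs : Etale s.left := h.hf.2 _ _ _ sq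
  have hss : Surjective s.left := h.hs.2 _ _ _ sq
  obtain ⟨v, hv⟩ := hss.surj x
  obtain ⟨l, hl⟩ := (yon S).map_surjective fst
  refine ⟨ofEt E s hs, ofEtHom E s hs, ⟨v, hv⟩, EtOver.homMk l ?_, ?_⟩
  · rw [hl, ← h.fj, ← Category.assoc, sq.w, Category.assoc, z.2]
    rfl
  · apply Subtype.ext
    change (yon S).map l ≫ f = (yon S).map s ≫ z.1
    rw [hl, sq.w]

theorem ymap_comp {E A V : EtOver X} (x : E ⟶ A) (a : A ⟶ V) :
    (yon S).map (x ≫ a).hom.left = (yon S).map x.hom.left ≫ (yon S).map a.hom.left := (yon S).map_comp _ _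

theorem Sq.inj (h : Sq k j V A f a fa) {E : EtOver X} (x y : E ⟶ A) (h1 : x ≫ a = y ≫ a) : x = y := by
  have hk : Mono k := K598.RepKit.mono_of_repWith_isOpenImmersion h.hk
  have h2 : (yon S).map x.hom.left ≫ (yon S).map a.hom.left = (yon S).map y.hom.left ≫ (yon S).map a.hom.left := by
    rw [← ymap_comp, h1, ymap_comp]
  apply EtOver.hom_ext
  apply (yon S).map_injective
  refine h.pb.hom_ext ?_ h2
  rw [← cancel_mono k, Category.assoc, Category.assoc, h.pb.w, ← Category.assoc, h2, Category.assoc]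

theorem Sq.exists_pb (h : Sq k j V A f a fa) {E : EtOver X} (x : (hG (k ≫ j)).obj (op E)) (y : E ⟶ V)
    (h1 : x.1 ≫ k = (yon S).map y.hom.left ≫ f) : ∃ l : E ⟶ A, (yon S).map l.hom.left ≫ fa = x.1 ∧ l ≫ a = y := by
  obtain ⟨l, hl⟩ := (yon S).map_surjective (h.pb.lift _ _ h1)
  have h2 : (yon S).map l ≫ fa = x.1 := by rw [hl, h.pb.lift_fst]
  have h3 : (yon S).map l ≫ A.obj.hom = E.obj.hom := by
    rw [← h.faj, ← Category.assoc, h2]
    exact x.2
  refine ⟨EtOver.homMk l h3, h2, ?_⟩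
  apply EtOver.hom_ext
  apply (yon S).map_injective
  rw [ymap_comp]
  exact (congrArg (fun t => t ≫ (yon S).map a.hom.left) hl).trans (h.pb.lift_snd _ _ h1)

/-- the Mayer-Vietoris square -/
theorem Sq.isMV (h : Sq k j V A f a fa) : IsMV (etTop X) (yMap fa (k ≫ j) h.faj) (uliftYoneda.{u + 1}.map a)
    (hMap k j) (yMap f j h.fj) := by
  have hk : Mono k := K598.RepKit.mono_of_repWith_isOpenImmersion h.hk
  have hkj : ∀ {G : Sp S} (x y : G ⟶ U), x ≫ k = y ≫ k → x = y := fun x y hxy => (cancel_mono k).1 hxy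
  refine { comm := ?_, inj_a := ?_, inj_u := ?_, pb := ?_, cov := ?_, uniq := ?_ }
  · rintro E ⟨b⟩
    apply Subtype.ext
    have h1 : ((yon S).map b.hom.left ≫ fa) ≫ k = (yon S).map (b ≫ a).hom.left ≫ f := by
      rw [Category.assoc, h.pb.w, ymap_comp, Category.assoc]
    exact h1
  · rintro E ⟨x⟩ ⟨y⟩ hxy
    exact ULift.ext _ _ (h.inj x y (congrArg ULift.down hxy))
  · intro E x y hxy
    apply Subtype.ext
    exact hkj _ _ (congrArg Subtype.val hxy)
  · rintro E x ⟨y⟩ hxy
    obtain ⟨l, h1, h2⟩ := h.exists_pb x y (congrArg Subtype.val hxy)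
    exact ⟨⟨l⟩, Subtype.ext h1, ULift.ext _ _ h2⟩
  · intro E z
    choose E' g hg y hy using fun x : ↥(sch E) => h.exists_lift z x
    refine ⟨Sieve.ofArrows E' g, ofArrows_mem g fun x => ⟨x, hg x⟩, ?_⟩
    rintro E₁ _ ⟨E₂, e, _, ⟨x⟩, rfl⟩
    refine Or.inr ⟨⟨e ≫ y x⟩, ?_⟩
    have h1 : (yMap f j h.fj).app (op E₁) ⟨e ≫ y x⟩ = (hG j).map e.op ((yMap f j h.fj).app (op (E' x)) ⟨y x⟩) := by
      apply Subtype.ext
      change (yon S).map (e ≫ y x).hom.left ≫ f = (yon S).map e.hom.left ≫ (yon S).map (y x).hom.left ≫ f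
      rw [ymap_comp, Category.assoc]
    rw [h1, hy x]
    exact (pmap_comp (P := hG j) (g x) e z).symm
  · rintro E ⟨y⟩ ⟨y'⟩ hyy
    have hyy' : (yon S).map y.hom.left ≫ f = (yon S).map y'.hom.left ≫ f := congrArg Subtype.val hyy
    choose E' g hg hc using fun x : ↥(sch E) => h.agree y y' hyy' x
    refine ⟨Sieve.ofArrows E' g, ofArrows_mem g fun x => ⟨x, hg x⟩, ?_⟩
    rintro E₁ _ ⟨E₂, e, _, ⟨x⟩, rfl⟩
    rcases hc x with h1 | ⟨s, hs⟩
    · refine Or.inl (ULift.ext _ _ ?_)
      change (e ≫ g x) ≫ y = (e ≫ g x) ≫ y'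
      rw [Category.assoc, h1, Category.assoc]
    · refine Or.inr ⟨(hG (k ≫ j)).map e.op s, ?_⟩
      apply Subtype.ext
      have h2 : ((yon S).map e.hom.left ≫ s.1) ≫ k = (yon S).map ((e ≫ g x) ≫ y).hom.left ≫ f := by
        rw [Category.assoc, hs, Category.assoc e, ymap_comp e, Category.assoc]
      exact h2

end K643.SqSp
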