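import Groth.Agent.AlgSp.K643.PropShift
import Groth.Agent.AlgSp.K643.PushAff
import Groth.Agent.CohtopA.SpectralVanish

/-!
# Restriction of abelian etale sheaves to the Zariski site of an etale chart

For an object `E` of the small etale site of `X` with scheme `V` and an abelian sheaf `F`, `Φ E F` is the restriction of `F` to the opens of
`V` (lifted by one universe). If the higher cohomology of `F` over affine objects vanishes, then

* `van`: vanishing of Zariski cohomology implies vanishing of etale cohomology;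
* `surj`: surjectivity of restriction maps in Zariski cohomology implies surjectivity in etale cohomology;
* `eq_zero_of_dim`, `surj_of_dim`: the case of spectral spaces of dimension at most `d`.
-/

set_option autoImplicit false
universe u

open CategoryTheory CategoryTheory.Limits AlgebraicGeometry Opposite AlgSp TopologicalSpace
open CategoryTheory.Abelian (Ext)
open CategoryTheory.Abelian.Ext
open Groth.Agent.Etbase.FreeSheaf

set_option backward.isDefEq.respectTransparency false

namespace K643.ZarCmp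

open K643.CechX K643.ObjCoh K643.PushAff K646.EtSite
open Groth.Agent.CohtopA.FreeAb (freeAb freeAbMap homEv homEv_comp homEv_freeAbMap homEv_bijective)

attribute [local instance 3000] hasSheafify_et wEqualsLocallyBijective_et hasSheafCompose_et hasExt_et

variable {S : Scheme.{u}} {X : Sp S}

section Lift

/-- maps into open subobjects -/
theorem exists_lift_opn {Z E : EtOver X} (g : Z ⟶ E) (W : (sch E).Opens)
    (h : Set.range (mor g) ⊆ (W : Set ↥(sch E))) : ∃ g' : Z ⟶ opn E W, g' ≫ opnι E W = g := by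
  have h1 : Set.range (mor g) ⊆ Set.range W.ι := by rwa [W.range_ι]
  exact ⟨extLift W.ι g (IsOpenImmersion.lift W.ι (mor g) h1) (IsOpenImmersion.lift_fac _ _ _),
    extLift_extHom _ _ _ _⟩

instance mono_opnι (E : EtOver X) (W : (sch E).Opens) : Mono (opnι E W) :=
  have : Mono (mor (opnι E W)) := inferInstanceAs (Mono W.ι)
  mono_of_mono_mor _

theorem range_comp_opnι {Z E : EtOver X} (W : (sch E).Opens) (g : Z ⟶ opn E W) :
    Set.range (mor (g ≫ opnι E W)) ⊆ (W : Set ↥(sch E)) := by
  rintro _ ⟨z, rfl⟩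
  have h : mor (opnι E W) (mor g z) ∈ Set.range (mor (opnι E W)) := ⟨_, rfl⟩
  rw [range_opnι] at h
  exact h

end Lift

variable (E : EtOver X)

/-- the underlying space of `E`, one universe up -/
abbrev T : TopCat.{u + 1} := TopCat.of (ULift.{u + 1} ↥(sch E))

/-- the open subset of the scheme -/
def dn (W : Opens (T E)) : (sch E).Opens := ⟨ULift.up ⁻¹' (W : Set (T E)), W.isOpen.preimage continuous_uliftUp⟩

/-- the lifted open subset -/
def up (W : (sch E).Opens) : Opens (T E) := ⟨ULift.down ⁻¹' (W : Set ↥(sch E)), W.isOpen.preimage continuous_uliftDown⟩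

theorem mem_dn (W : Opens (T E)) (x : ↥(sch E)) : x ∈ dn E W ↔ (ULift.up x : T E) ∈ W := Iff.rfl

theorem dn_up (W : (sch E).Opens) : dn E (up E W) = W := rfl

theorem dn_mono {W W' : Opens (T E)} (h : W ≤ W') : dn E W ≤ dn E W' := fun _ hx => h hx

/-- the restriction between open subobjects -/
noncomputable def opnLE {W W' : (sch E).Opens} (h : W ≤ W') : opn E W ⟶ opn E W' :=
  extLift W'.ι (opnι E W) ((sch E).homOfLE h) (Scheme.homOfLE_ι _ h)

@[reassoc (attr := simp)]
theorem opnLE_ι {W W' : (sch E).Opens} (h : W ≤ W') : opnLE E h ≫ opnι E W' = opnι E W :=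
  extLift_extHom _ _ _ _

/-- the functor from the opens to the small etale site -/
noncomputable def zar : Opens (T E) ⥤ EtOver X where
  obj W := opn E (dn E W)
  map {W W'} i := opnLE E (dn_mono E i.le)
  map_id W := by rw [← cancel_mono (opnι E _), opnLE_ι, Category.id_comp]
  map_comp {W W' W''} i j := by rw [← cancel_mono (opnι E _), opnLE_ι, Category.assoc, opnLE_ι, opnLE_ι]

theorem zar_map_ι {W W' : Opens (T E)} (i : W ⟶ W') : (zar E).map i ≫ opnι E (dn E W') = opnι E (dn E W) :=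
  opnLE_ι E _

instance mono_zar_map {W W' : Opens (T E)} (i : W ⟶ W') : Mono ((zar E).map i) := by
  have : Mono ((zar E).map i ≫ opnι E (dn E W')) := by rw [zar_map_ι]; infer_instance
  exact mono_of_mono _ (opnι E (dn E W'))

theorem range_zar_map {W W' : Opens (T E)} (i : W ⟶ W') :
    Set.range (mor ((zar E).map i)) = mor (opnι E (dn E W')) ⁻¹' (dn E W : Set ↥(sch E)) := by
  ext x
  constructor
  · rintro ⟨y, rfl⟩
    have h : mor ((zar E).map i ≫ opnι E (dn E W')) y ∈ Set.range (mor (opnι E (dn E W))) := by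
      rw [zar_map_ι]
      exact ⟨y, rfl⟩
    rw [range_opnι] at h
    exact h
  · intro hx
    have h : mor (opnι E (dn E W')) x ∈ Set.range (mor (opnι E (dn E W))) := by rw [range_opnι]; exact hx
    obtain ⟨y, hy⟩ := h
    refine ⟨y, ?_⟩
    have h2 : Function.Injective (mor (opnι E (dn E W'))) := (dn E W').ι.isOpenEmbedding.injective
    apply h2
    rw [← hy, ← zar_map_ι E i]
    rfl

theorem exists_zar_lift {Z : EtOver X} {W W' : Opens (T E)} (i : W ⟶ W') (g : Z ⟶ (zar E).obj W')
    (h : Set.range (mor (g ≫ opnι E (dn E W'))) ⊆ (dn E W : Set ↥(sch E))) :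
    ∃ g' : Z ⟶ (zar E).obj W, g' ≫ (zar E).map i = g := by
  obtain ⟨g', hg'⟩ := exists_lift_opn _ _ h
  refine ⟨g', ?_⟩
  rw [← cancel_mono (opnι E (dn E W')), Category.assoc, zar_map_ι, hg']

/-- the restriction to the opens of the chart is a sheaf -/
theorem isSheaf_zar (F : AbEt X) :
    Presheaf.IsSheaf (Opens.grothendieckTopology (T E)) ((zar E).op ⋙ F.obj) := by
  rw [Presheaf.isSheaf_iff_isSheaf_forget _ _ (forget AddCommGrpCat.{u + 1}), isSheaf_iff_isSheaf_of_type]
  intro W R hR x hx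
  have hcov : ∀ v : ↥(sch ((zar E).obj W)), ∃ i : (Σ W', {f : W' ⟶ W // R f}),
      v ∈ Set.range (mor ((zar E).map i.2.1)) := by
    intro v
    have hv : mor (opnι E (dn E W)) v ∈ Set.range (mor (opnι E (dn E W))) := ⟨v, rfl⟩
    rw [range_opnι] at hv
    obtain ⟨W', f, hf, hv'⟩ := hR _ ((mem_dn E W _).1 hv)
    refine ⟨⟨W', f, hf⟩, ?_⟩
    rw [range_zar_map]
    exact hv'
  have key := existsUnique_glue F (fun i : (Σ W', {f : W' ⟶ W // R f}) => (zar E).map i.2.1) hcov
    (fun i => x i.2.1 i.2.2) (by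
      intro i j Z gi gj hg
      have e1 : gi ≫ opnι E (dn E i.1) = gj ≫ opnι E (dn E j.1) := by
        have := congrArg (fun t => t ≫ opnι E (dn E W)) hg
        simpa only [Category.assoc, zar_map_ι] using this
      have h1 : Set.range (mor (gi ≫ opnι E (dn E i.1))) ⊆ (dn E (i.1 ⊓ j.1) : Set ↥(sch E)) := by
        intro y hy
        exact ⟨range_comp_opnι _ gi hy, range_comp_opnι _ gj (e1 ▸ hy)⟩
      obtain ⟨g', hg'⟩ := exists_zar_lift E (homOfLE inf_le_left : i.1 ⊓ j.1 ⟶ i.1) gi h1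
      obtain ⟨g'', hg''⟩ := exists_zar_lift E (homOfLE inf_le_right : i.1 ⊓ j.1 ⟶ j.1) gj (e1 ▸ h1)
      have e2 : g' = g'' := by
        rw [← cancel_mono (opnι E (dn E (i.1 ⊓ j.1))), ← zar_map_ι E (homOfLE inf_le_left : i.1 ⊓ j.1 ⟶ i.1),
          ← Category.assoc, hg', e1, ← hg'', Category.assoc, zar_map_ι, zar_map_ι]
      have h2 := hx (homOfLE inf_le_left : i.1 ⊓ j.1 ⟶ i.1) (homOfLE inf_le_right : i.1 ⊓ j.1 ⟶ j.1)
        i.2.2 j.2.2 (Subsingleton.elim _ _)
      rw [← hg', ← hg'', ← e2, op_comp, op_comp, F.obj.map_comp, F.obj.map_comp]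
      exact congrArg (F.obj.map g'.op) h2)
  obtain ⟨t, ht, ht'⟩ := key
  exact ⟨t, fun W' f hf => ht ⟨W', f, hf⟩, fun t' h => ht' t' fun i => h i.2.1 i.2.2⟩

/-- restriction to the opens of the chart -/
noncomputable def Φ : AbEt X ⥤ CohTop.Ab (T E) where
  obj F := ⟨(zar E).op ⋙ F.obj, isSheaf_zar E F⟩
  map a := ⟨Functor.whiskerLeft (zar E).op a.hom⟩

instance additive_Φ : (Φ E).Additive where

instance preservesZeroMorphisms_Φ : (Φ E).PreservesZeroMorphisms := inferInstance

theorem Φ_map_app {F G : AbEt X} (a : F ⟶ G) (W : Opens (T E)) :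
    ((Φ E).map a).hom.app (op W) = a.hom.app (op ((zar E).obj W)) := rfl

/-- `Z[E'] ⟶ Z[E]` is mono if `E' ⟶ E` is -/
theorem mono_Zmap {P Q : (EtOver X)ᵒᵖ ⥤ Type (u + 1)} (f : P ⟶ Q) [Mono f] : Mono (Zmap (J := etTop X) f) := by
  have : Mono (Functor.whiskerRight f AddCommGrpCat.free.{u + 1}) := by
    have : ∀ W, Mono ((Functor.whiskerRight f AddCommGrpCat.free.{u + 1}).app W) := by
      intro W
      rw [Functor.whiskerRight_app]
      infer_instance
    exact NatTrans.mono_of_mono_app _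
  exact inferInstanceAs (Mono ((presheafToSheaf (etTop X) AddCommGrpCat.{u + 1}).map
    (Functor.whiskerRight f AddCommGrpCat.free.{u + 1})))

theorem mono_ZEmap {E' E : EtOver X} (g : E' ⟶ E) [Mono g] : Mono (ZEmap g) := by
  have : Mono (uliftYoneda.{u + 1}.map g) := by
    have h : ∀ W, Mono ((uliftYoneda.{u + 1}.map g).app W) := by
      intro W
      rw [mono_iff_injective]
      intro a b hab
      apply ULift.ext
      exact (cancel_mono g).1 (congrArg ULift.down hab)
    exact NatTrans.mono_of_mono_app _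
  exact mono_Zmap _

/-- injective sheaves are flasque -/
theorem surj_of_injective (I : AbEt X) [Injective I] {E' E : EtOver X} (g : E' ⟶ E) [Mono g] :
    Function.Surjective (I.obj.map g.op) := by
  intro s
  have := mono_ZEmap g
  let a := (secEquiv E' I).symm s
  refine ⟨secEquiv E I (Injective.factorThru a (ZEmap g)), ?_⟩
  rw [← secEquiv_ZEmap, Injective.comp_factorThru]
  exact AddEquiv.apply_symm_apply _ _

theorem isFlasque_Φ (I : AbEt X) [Injective I] : TopCat.Sheaf.IsFlasque ((Φ E).obj I) := by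
  constructor
  intro U V i
  rw [AddCommGrpCat.epi_iff_surjective]
  exact surj_of_injective I ((zar E).map i.unop)

theorem preservesFiniteLimits_Φ : PreservesFiniteLimits (Φ E) := by
  have : PreservesFiniteLimits (sheafToPresheaf (etTop X) AddCommGrpCat.{u + 1} ⋙
    (Functor.whiskeringLeft _ _ AddCommGrpCat.{u + 1}).obj (zar E).op) := inferInstance
  have h : PreservesFiniteLimits (Φ E ⋙ sheafToPresheaf (Opens.grothendieckTopology (T E)) AddCommGrpCat.{u + 1}) :=
    this
  exact ⟨fun J _ _ => preservesLimitsOfShape_of_reflects_of_preserves (Φ E) (sheafToPresheaf _ _)⟩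

attribute [local instance] preservesFiniteLimits_Φ

/-- an affine neighbourhood basis -/
theorem exists_affine_dn {W : Opens (T E)} {x : T E} (hx : x ∈ W) :
    ∃ (W' : Opens (T E)) (_ : W' ⟶ W), x ∈ W' ∧ IsAffine (sch ((zar E).obj W')) := by
  obtain ⟨W', hW', hxW', hle⟩ := exists_isAffineOpen_mem_and_subset (X := sch E) (x := x.down)
    (U := dn E W) (by exact hx)
  exact ⟨up E W', homOfLE fun y hy => hle hy, hxW', hW'⟩

theorem shortExact_Φ {T' : ShortComplex (AbEt X)} (hT : T'.ShortExact) (h : Acyc (AffB X) T'.X₁) :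
    (T'.map (Φ E)).ShortExact := by
  have := hT.mono_f
  have hm : Mono ((Φ E).map T'.f) := inferInstance
  have he : Epi ((Φ E).map T'.g) := by
    rw [← Sheaf.isLocallySurjective_iff_epi']
    constructor
    intro W s
    have : Presheaf.imageSieve ((Φ E).map T'.g).hom s ∈ Opens.grothendieckTopology (T E) W := by
      intro x hx
      obtain ⟨W', i, hxW', ha⟩ := exists_affine_dn E hx
      refine ⟨W', i, ?_, hxW'⟩
      exact surj_sections hT ((zar E).obj W') (h _ ha 0) _
    exact this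
  exact { exact := hT.exact.map_of_mono_of_preservesKernel (Φ E) inferInstance inferInstance
          mono_f := hm
          epi_g := he }

/-- sections of the restriction -/
noncomputable def zsec (W : Opens (T E)) (F : AbEt X) :
    (freeAb (Opens.grothendieckTopology (T E)) W ⟶ (Φ E).obj F) ≃ (ZE ((zar E).obj W) ⟶ F) :=
  (Equiv.ofBijective (homEv W ((Φ E).obj F)) (homEv_bijective W _)).trans (secEquiv ((zar E).obj W) F).symm.toEquiv

theorem secEquiv_zsec (W : Opens (T E)) (F : AbEt X) (a : freeAb (Opens.grothendieckTopology (T E)) W ⟶ (Φ E).obj F) :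
    secEquiv ((zar E).obj W) F (zsec E W F a) = homEv W ((Φ E).obj F) a :=
  AddEquiv.apply_symm_apply _ _

theorem zsec_comp (W : Opens (T E)) {F G : AbEt X} (a : freeAb (Opens.grothendieckTopology (T E)) W ⟶ (Φ E).obj F)
    (b : F ⟶ G) : zsec E W G (a ≫ (Φ E).map b) = zsec E W F a ≫ b := by
  apply (secEquiv ((zar E).obj W) G).injective
  rw [secEquiv_zsec, secEquiv_comp, secEquiv_zsec]
  exact homEv_comp _ _

theorem zsec_res {W W' : Opens (T E)} (i : W' ⟶ W) {F : AbEt X}
    (a : freeAb (Opens.grothendieckTopology (T E)) W ⟶ (Φ E).obj F) :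
    zsec E W' F (freeAbMap _ i ≫ a) = ZEmap ((zar E).map i) ≫ zsec E W F a := by
  apply (secEquiv ((zar E).obj W') F).injective
  rw [secEquiv_zsec, secEquiv_ZEmap, secEquiv_zsec]
  exact homEv_freeAbMap i a

theorem zsec_add (W : Opens (T E)) (F : AbEt X) (a b : freeAb (Opens.grothendieckTopology (T E)) W ⟶ (Φ E).obj F) :
    zsec E W F (a + b) = zsec E W F a + zsec E W F b := by
  apply (secEquiv ((zar E).obj W) F).injective
  refine Eq.trans ?_ (map_add (secEquiv ((zar E).obj W) F) _ _).symm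
  rw [secEquiv_zsec, secEquiv_zsec, secEquiv_zsec]
  exact map_add (homEv W ((Φ E).obj F)) a b

theorem Φ_eq_zero (I : AbEt X) [Injective I] (W : Opens (T E)) (m : ℕ)
    (x : Ext.{u + 1} (freeAb (Opens.grothendieckTopology (T E)) W) ((Φ E).obj I) (m + 1)) : x = 0 := by
  have := isFlasque_Φ E I
  exact Groth.Agent.CohtopA.Flasque.ext_succ_eq_zero_of_isFlasque _ W m x

/-- vanishing of Zariski cohomology implies vanishing of etale cohomology -/
theorem van (n : ℕ) : ∀ (F : AbEt X), Acyc (AffB X) F → ∀ W : Opens (T E),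
    (∀ x : Ext.{u + 1} (freeAb (Opens.grothendieckTopology (T E)) W) ((Φ E).obj F) (n + 1), x = 0) →
    ∀ x : HE ((zar E).obj W) F (n + 1), x = 0 := by
  induction n with
  | zero =>
    intro F hF W h
    obtain ⟨I, G, a, b, w, hT, hI⟩ := exists_embedding F
    have hT' := shortExact_Φ E hT hF
    rw [PropShift.van_one_iff hT _ fun m x => Ext.eq_zero_of_injective x]
    have h2 := (PropShift.van_one_iff hT' (freeAb (Opens.grothendieckTopology (T E)) W)
      fun m x => Φ_eq_zero E I W m x).1 h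
    intro g
    obtain ⟨i, hi⟩ := h2 ((zsec E W G).symm g)
    refine ⟨zsec E W I i, ?_⟩
    have h3 := congrArg (zsec E W G) hi
    rw [Equiv.apply_symm_apply] at h3
    exact (zsec_comp E W i b).symm.trans h3
  | succ n ih =>
    intro F hF W h
    obtain ⟨I, G, a, b, w, hT, hI⟩ := exists_embedding F
    have hT' := shortExact_Φ E hT hF
    rw [PropShift.van_iff hT _ n fun m x => Ext.eq_zero_of_injective x]
    exact ih G (Acyc.X₃ hT (Acyc.of_injective _ I) hF) W
      ((PropShift.van_iff hT' (freeAb (Opens.grothendieckTopology (T E)) W) n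
        fun m x => Φ_eq_zero E I W m x).1 h)

/-- surjectivity of restriction maps in Zariski cohomology implies surjectivity in etale cohomology -/
theorem surj_succ (n : ℕ) : ∀ (F : AbEt X), Acyc (AffB X) F → ∀ {W W' : Opens (T E)} (i : W' ⟶ W),
    (∀ x' : Ext.{u + 1} (freeAb (Opens.grothendieckTopology (T E)) W') ((Φ E).obj F) (n + 1),
      ∃ x : Ext.{u + 1} (freeAb (Opens.grothendieckTopology (T E)) W) ((Φ E).obj F) (n + 1),
        (mk₀ (freeAbMap _ i)).comp x (zero_add _) = x') →
    ∀ x' : HE ((zar E).obj W') F (n + 1), ∃ x : HE ((zar E).obj W) F (n + 1),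
      (mk₀ (ZEmap ((zar E).map i))).comp x (zero_add _) = x' := by
  induction n with
  | zero =>
    intro F hF W W' j h
    obtain ⟨I, G, a, b, w, hT, hI⟩ := exists_embedding F
    have hT' := shortExact_Φ E hT hF
    rw [PropShift.surj_one_iff hT _ (fun m x => Ext.eq_zero_of_injective x) fun m x => Ext.eq_zero_of_injective x]
    have h2 := (PropShift.surj_one_iff hT' (freeAbMap _ j)
      (fun m x => Φ_eq_zero E I W' m x)
      (fun m x => Φ_eq_zero E I W m x)).1 h
    intro g'
    obtain ⟨g, i', hi⟩ := h2 ((zsec E W' G).symm g')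
    refine ⟨zsec E W G g, zsec E W' I i', ?_⟩
    have h3 := congrArg (zsec E W' G) hi
    rw [Equiv.apply_symm_apply, zsec_add, zsec_res] at h3
    exact h3.trans (congrArg _ (zsec_comp E W' i' b))
  | succ n ih =>
    intro F hF W W' j h
    obtain ⟨I, G, a, b, w, hT, hI⟩ := exists_embedding F
    have hT' := shortExact_Φ E hT hF
    rw [PropShift.surj_iff hT _ n (fun m x => Ext.eq_zero_of_injective x) fun m x => Ext.eq_zero_of_injective x]
    exact ih G (Acyc.X₃ hT (Acyc.of_injective _ I) hF) j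
      ((PropShift.surj_iff hT' (freeAbMap _ j) n
        (fun m x => Φ_eq_zero E I W' m x)
        fun m x => Φ_eq_zero E I W m x).1 h)

theorem surj_zero (F : AbEt X) {W W' : Opens (T E)} (i : W' ⟶ W)
    (h : ∀ x' : Ext.{u + 1} (freeAb (Opens.grothendieckTopology (T E)) W') ((Φ E).obj F) 0,
      ∃ x : Ext.{u + 1} (freeAb (Opens.grothendieckTopology (T E)) W) ((Φ E).obj F) 0,
        (mk₀ (freeAbMap _ i)).comp x (zero_add _) = x')
    (x' : HE ((zar E).obj W') F 0) : ∃ x : HE ((zar E).obj W) F 0,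
      (mk₀ (ZEmap ((zar E).map i))).comp x (zero_add _) = x' := by
  obtain ⟨a', rfl⟩ := (mk₀_bijective _ _).2 x'
  obtain ⟨x, hx⟩ := h (mk₀ ((zsec E W' F).symm a'))
  obtain ⟨a, rfl⟩ := (mk₀_bijective _ _).2 x
  rw [mk₀_comp_mk₀] at hx
  refine ⟨mk₀ (zsec E W F a), ?_⟩
  rw [mk₀_comp_mk₀, ← zsec_res, (mk₀_bijective _ _).1 hx, Equiv.apply_symm_apply]

theorem surj (n : ℕ) (F : AbEt X) (hF : Acyc (AffB X) F) {W W' : Opens (T E)} (i : W' ⟶ W)
    (h : ∀ x' : Ext.{u + 1} (freeAb (Opens.grothendieckTopology (T E)) W') ((Φ E).obj F) n,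
      ∃ x : Ext.{u + 1} (freeAb (Opens.grothendieckTopology (T E)) W) ((Φ E).obj F) n,
        (mk₀ (freeAbMap _ i)).comp x (zero_add _) = x')
    (x' : HE ((zar E).obj W') F n) : ∃ x : HE ((zar E).obj W) F n,
      (mk₀ (ZEmap ((zar E).map i))).comp x (zero_add _) = x' := by
  cases n with
  | zero => exact surj_zero E F i h x'
  | succ n => exact surj_succ E n F hF i h x'

section Spectral

theorem isOpenEmbedding_down : Topology.IsOpenEmbedding (ULift.down : T E → ↥(sch E)) :=
  (Homeomorph.ulift (X := ↥(sch E))).isOpenEmbedding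

theorem spectralSpace_T [CompactSpace ↥(sch E)] [QuasiSeparatedSpace ↥(sch E)] : SpectralSpace (T E) := by
  have : SpectralSpace ↥(sch E) := { }
  have : CompactSpace (T E) := inferInstanceAs (CompactSpace (ULift.{u + 1} ↥(sch E)))
  exact (isOpenEmbedding_down E).spectralSpace

theorem dim_T : topologicalKrullDim (T E) = topologicalKrullDim ↥(sch E) :=
  IsHomeomorph.topologicalKrullDim_eq _ (Homeomorph.ulift (X := ↥(sch E))).isHomeomorph

theorem isIso_opnι_top : IsIso (opnι E (dn E ⊤)) := by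
  obtain ⟨g, hg⟩ := exists_lift_opn (𝟙 E) (dn E ⊤) (fun _ _ => trivial)
  refine ⟨g, ?_, hg⟩
  rw [← cancel_mono (opnι E (dn E ⊤)), Category.assoc, hg, Category.comp_id, Category.id_comp]

/-- the functor of free abelian sheaves -/
noncomputable abbrev ZF (X : Sp S) : ((EtOver X)ᵒᵖ ⥤ Type (u + 1)) ⥤ AbEt X :=
  (Functor.whiskeringRight _ _ _).obj AddCommGrpCat.free.{u + 1} ⋙ presheafToSheaf (etTop X) AddCommGrpCat.{u + 1}

theorem Zmap_comp {P Q R : (EtOver X)ᵒᵖ ⥤ Type (u + 1)} (f : P ⟶ Q) (g : Q ⟶ R) :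
    Zmap (J := etTop X) (f ≫ g) = Zmap f ≫ Zmap g := (ZF X).map_comp f g

theorem Zmap_id (P : (EtOver X)ᵒᵖ ⥤ Type (u + 1)) : Zmap (J := etTop X) (𝟙 P) = 𝟙 _ := (ZF X).map_id P

theorem ZEmap_comp {E E' E'' : EtOver X} (g : E ⟶ E') (g' : E' ⟶ E'') :
    ZEmap (g ≫ g') = ZEmap g ≫ ZEmap g' :=
  (uliftYoneda.{u + 1} ⋙ ZF X).map_comp g g'

theorem ZEmap_id (E : EtOver X) : ZEmap (𝟙 E) = 𝟙 _ := (uliftYoneda.{u + 1} ⋙ ZF X).map_id E

theorem isIso_ZEmap {E E' : EtOver X} (g : E ⟶ E') [IsIso g] : IsIso (ZEmap g) :=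
  inferInstanceAs (IsIso ((uliftYoneda.{u + 1} ⋙ ZF X).map g))

/-- etale cohomology of a spectral chart vanishes above its dimension -/
theorem eq_zero_of_dim [CompactSpace ↥(sch E)] [QuasiSeparatedSpace ↥(sch E)] (d : ℕ)
    (hd : topologicalKrullDim ↥(sch E) ≤ d) (F : AbEt X) (hF : Acyc (AffB X) F) (n : ℕ) (hn : d < n)
    (x : HE E F n) : x = 0 := by
  have := spectralSpace_T E
  have hd' : topologicalKrullDim (T E) ≤ d := (dim_T E).trans_le hd
  obtain ⟨n, rfl⟩ : ∃ m, n = m + 1 := ⟨n - 1, by omega⟩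
  have h1 := Groth.Agent.CohtopA.SpectralVanish.subsingleton_H ((Φ E).obj F) d hd' (n + 1) hn
  have h2 : Subsingleton (CohTop.HU ((Φ E).obj F) (n + 1) ⊤) :=
    (Groth.Agent.CohtopA.Flasque.HTopEquiv ((Φ E).obj F) (n + 1)).symm.toEquiv.subsingleton
  have h3 : ∀ x : Ext.{u + 1} (freeAb (Opens.grothendieckTopology (T E)) ⊤) ((Φ E).obj F) (n + 1), x = 0 :=
    fun x => Subsingleton.elim (α := CohTop.HU ((Φ E).obj F) (n + 1) ⊤) x 0
  have h4 := van E n F hF ⊤ h3
  have := isIso_opnι_top E
  have := isIso_ZEmap (opnι E (dn E ⊤))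
  have h5 := h4 ((mk₀ (ZEmap (opnι E (dn E ⊤)))).comp x (zero_add _))
  have h6 := congrArg (fun y : HE ((zar E).obj ⊤) F (n + 1) =>
    (mk₀ (inv (ZEmap (opnι E (dn E ⊤))))).comp y (zero_add _)) h5
  dsimp only at h6
  rwa [mk₀_comp_mk₀_assoc, IsIso.inv_hom_id, mk₀_id_comp, Ext.comp_zero] at h6

/-- surjectivity of the restriction to a quasi-compact open subscheme in top degree -/
theorem surj_of_dim [CompactSpace ↥(sch E)] [QuasiSeparatedSpace ↥(sch E)] (d : ℕ)
    (hd : topologicalKrullDim ↥(sch E) ≤ d) (F : AbEt X) (hF : Acyc (AffB X) F) (A : (sch E).Opens)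
    (hA : IsCompact (A : Set ↥(sch E))) (x' : HE (opn E A) F d) :
    ∃ x : HE E F d, (mk₀ (ZEmap (opnι E A))).comp x (zero_add _) = x' := by
  have := spectralSpace_T E
  have hd' : topologicalKrullDim (T E) ≤ d := (dim_T E).trans_le hd
  have hA' : IsCompact (up E A : Set (T E)) :=
    (Homeomorph.ulift (X := ↥(sch E))).isCompact_preimage.2 hA
  have h1 := Groth.Agent.CohtopA.SpectralVanish.surjective_res ((Φ E).obj F) d hd' (up E A) hA'
  have h4 := surj E d F hF (homOfLE le_top : up E A ⟶ ⊤) (fun y => h1 y) x'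
  obtain ⟨x, hx⟩ := h4
  have := isIso_opnι_top E
  have := isIso_ZEmap (opnι E (dn E ⊤))
  refine ⟨(mk₀ (inv (ZEmap (opnι E (dn E ⊤))))).comp x (zero_add _), ?_⟩
  rw [mk₀_comp_mk₀_assoc, ← hx]
  have h5 : ZEmap (opnι E A) ≫ inv (ZEmap (opnι E (dn E ⊤))) =
      ZEmap ((zar E).map (homOfLE le_top : up E A ⟶ ⊤)) := by
    rw [IsIso.comp_inv_eq, ← ZEmap_comp, zar_map_ι]
    rfl
  rw [h5]

end Spectral

end K643.ZarCmp
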